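import Groth.Agent.L27.AbsAbh.DescentLemmas
import Groth.Agent.L05.Henselization.Noeth
import Groth.Agent.L05.Henselization.EtaleLike
import Groth.Agent.L13.Purity.InertiaGen

/-! Removing the residue characteristic from a Kummer exponent along a divisor of characteristic zero. -/

set_option autoImplicit false
set_option linter.style.haveILetI false
set_option backward.isDefEq.respectTransparency false
set_option maxSynthPendingDepth 3

universe u

open IsLocalRing Polynomial TensorProduct

namespace Groth.L27.AbsAbh

/-- data of a strict henselization of a regular local ring -/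
theorem strict_data (R : Type u) [CommRing R] [IsRegularLocalRing R] :
    ∃ (S : Type u) (_ : CommRing S) (_ : IsRegularLocalRing S) (_ : Algebra R S),
      HenselianLocalRing S ∧ IsSepClosed (ResidueField S) ∧ Module.Flat R S ∧ IsLocalHom (algebraMap R S) ∧
        (maximalIdeal R).map (algebraMap R S) = maximalIdeal S := by
  obtain ⟨S, _, _, _, _, hS⟩ := Groth.L05.Henselization.exists_isStrictHenselization R
  haveI : IsNoetherianRing S := (Groth.L05.Henselization.isNoetherianRing_iff_strict R S).1 inferInstance
  haveI := Groth.L05.Henselization.flat_of_isStrictHenselization R S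
  have hmap := Groth.L05.Henselization.map_maximalIdeal_of_isStrictHenselization R S
  haveI : IsRegularLocalRing S :=
    (Groth.L05.Henselization.isRegularLocalRing_iff_of_map_maximalIdeal R S hmap).1 inferInstance
  exact ⟨S, inferInstance, inferInstance, inferInstance, hS.henselian, hS.isSepClosure.sep_closed, inferInstance,
    inferInstance, hmap⟩

set_option maxHeartbeats 4000000 in
/-- unramifiedness along a divisor descends from a `p`-th root of its equation -/
theorem isUnramifiedAt_descent {R R1 : Type u} [CommRing R] [IsRegularLocalRing R] [IsDomain R] [CommRing R1]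
    [IsRegularLocalRing R1] [IsDomain R1] [Algebra R R1] [Module.Finite R R1]
    (hinj : Function.Injective (algebraMap R R1))
    {t : R} (ht : t ∈ maximalIdeal R) (ht2 : t ∉ maximalIdeal R ^ 2)
    {p : ℕ} (hp : p.Prime) (hpm : (p : R) ∈ maximalIdeal R) (hpt : (p : R) ∉ Ideal.span {t})
    {τ : R1} (hτ : τ ^ p = algebraMap R R1 t) (hgen : Algebra.adjoin R {τ} = ⊤)
    {K : Type u} [Field K] [Algebra R K] [IsFractionRing R K]
    {M : Type u} [Field M] [Algebra K M] [Algebra R M] [IsScalarTower R K M] [FiniteDimensional K M]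
    [Algebra.IsSeparable K M]
    (hp1 : ∀ (P : Ideal (integralClosure R M)) [P.IsPrime],
      (P.comap (algebraMap R (integralClosure R M))).height = 1 →
      (p : R) ∈ P.comap (algebraMap R (integralClosure R M)) → Algebra.IsUnramifiedAt R P)
    (hgood : ∀ (M1 : Type u) [Field M1] [Algebra (FractionRing R1) M1] [Algebra R1 M1]
      [IsScalarTower R1 (FractionRing R1) M1] [Algebra R M1] [IsScalarTower R R1 M1]
      [FiniteDimensional (FractionRing R1) M1] [Algebra.IsSeparable (FractionRing R1) M1] (σ : M →ₐ[R] M1),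
      Algebra.adjoin (FractionRing R1) (Set.range σ) = ⊤ → Algebra.Etale R1 (integralClosure R1 M1))
    (P : Ideal (integralClosure R M)) [P.IsPrime]
    (hP : P.comap (algebraMap R (integralClosure R M)) = Ideal.span {t}) :
    Algebra.IsUnramifiedAt R P := by
  classical
  haveI : IsIntegrallyClosed R := Groth.L03.RegularNormal.isIntegrallyClosed R
  let C := integralClosure R M
  haveI : Module.Finite R C := IsIntegralClosure.finite R K M C
  haveI : Algebra.IsIntegral R C := Algebra.IsIntegral.of_finite R C
  haveI : IsNoetherianRing C := IsNoetherianRing.of_finite R C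
  haveI : IsFractionRing C M := integralClosure.isFractionRing_of_finite_extension K M
  haveI : IsIntegrallyClosed C := integralClosure.isIntegrallyClosedOfFiniteExtension K
  -- the strict henselization
  obtain ⟨S, _, _, _, hhens, hsep, hflat, hlocS, hmS⟩ := strict_data R
  haveI := hhens; haveI := hsep; haveI := hflat; haveI := hlocS
  haveI := Groth.L01.isDomain_of_regular S
  haveI : IsIntegrallyClosed S := Groth.L03.RegularNormal.isIntegrallyClosed S
  haveI : Module.FaithfullyFlat R S := Module.FaithfullyFlat.of_flat_of_isLocalHom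
  have hinjS : Function.Injective (algebraMap R S) := FaithfulSMul.algebraMap_injective R S
  let tS := algebraMap R S t
  have htS : tS ∈ maximalIdeal S := hmS ▸ Ideal.mem_map_of_mem _ ht
  have htS2 : tS ∉ maximalIdeal S ^ 2 := fun h => ht2 (by
    rw [← Ideal.comap_map_eq_self_of_faithfullyFlat (B := S) (maximalIdeal R ^ 2), Ideal.map_pow, hmS]
    exact h)
  have htSp : Prime tS := Groth.L13.Purity.prime_of_notMem_sq htS htS2
  let Qt : Ideal S := Ideal.span {tS}
  haveI hQt : Qt.IsPrime := (Ideal.span_singleton_prime htSp.ne_zero).2 htSp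
  have hQtR : Qt.comap (algebraMap R S) = Ideal.span {t} := by
    rw [show Qt = (Ideal.span {t}).map (algebraMap R S) by rw [Ideal.map_span, Set.image_singleton],
      Ideal.comap_map_eq_self_of_faithfullyFlat]
  -- fields
  let Ks := FractionRing S
  let Ω := AlgebraicClosure Ks
  have hSΩ : Function.Injective (algebraMap S Ω) := by
    rw [IsScalarTower.algebraMap_eq S Ks Ω]
    exact (algebraMap Ks Ω).injective.comp (IsFractionRing.injective S Ks)
  haveI : IsScalarTower R S Ω := IsScalarTower.of_algebraMap_eq fun x => by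
    rw [IsScalarTower.algebraMap_apply R Ks Ω, IsScalarTower.algebraMap_apply R S Ks,
      ← IsScalarTower.algebraMap_apply S Ks Ω]
  have hinjΩ : Function.Injective (algebraMap R Ω) := by
    rw [IsScalarTower.algebraMap_eq R S Ω]; exact hSΩ.comp hinjS
  letI : Algebra K Ω := (IsFractionRing.lift hinjΩ).toAlgebra
  haveI : IsScalarTower R K Ω := IsScalarTower.of_algebraMap_eq fun a => (IsFractionRing.lift_algebraMap hinjΩ a).symm
  let K1 := FractionRing R1
  haveI : FaithfulSMul R R1 := (faithfulSMul_iff_algebraMap_injective _ _).2 hinj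
  haveI : Algebra.IsIntegral R R1 := Algebra.IsIntegral.of_finite R R1
  haveI : Algebra.IsAlgebraic R R1 := Algebra.IsIntegral.isAlgebraic
  have hinjK1 : Function.Injective ((algebraMap R1 K1).comp (algebraMap R R1)) :=
    (IsFractionRing.injective R1 K1).comp hinj
  letI : Algebra K K1 := (IsFractionRing.lift hinjK1).toAlgebra
  haveI : IsScalarTower R K K1 := IsScalarTower.of_algebraMap_eq fun a => by
    rw [RingHom.algebraMap_toAlgebra, IsFractionRing.lift_algebraMap, RingHom.comp_apply,
      ← IsScalarTower.algebraMap_apply]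
  haveI : Module.Finite K K1 := Module.Finite.of_isLocalization R R1 (nonZeroDivisors R)
  haveI : Algebra.IsAlgebraic K K1 := Algebra.IsAlgebraic.of_finite K K1
  let σ1 : K1 →ₐ[K] Ω := IsAlgClosed.lift
  letI : Algebra K1 Ω := σ1.toRingHom.toAlgebra
  haveI : IsScalarTower K K1 Ω := IsScalarTower.of_algebraMap_eq fun a => (σ1.commutes a).symm
  letI : Algebra R1 Ω := ((algebraMap K1 Ω).comp (algebraMap R1 K1)).toAlgebra
  haveI : IsScalarTower R1 K1 Ω := IsScalarTower.of_algebraMap_eq' rfl
  haveI : IsScalarTower R R1 Ω := IsScalarTower.of_algebraMap_eq fun a => by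
    rw [IsScalarTower.algebraMap_apply R1 K1 Ω, ← IsScalarTower.algebraMap_apply R R1 K1,
      IsScalarTower.algebraMap_apply R K K1, ← IsScalarTower.algebraMap_apply K K1 Ω,
      ← IsScalarTower.algebraMap_apply R K Ω]
  let τΩ : Ω := algebraMap R1 Ω τ
  have hτΩ : τΩ ^ p = algebraMap S Ω tS := by
    rw [← map_pow, hτ, ← IsScalarTower.algebraMap_apply R R1 Ω]
    rfl
  have hτint : IsIntegral S τΩ := IsIntegral.of_pow hp.pos (hτΩ ▸ isIntegral_algebraMap)
  -- the strictly henselian ring over the root
  let S1 : Subalgebra S Ω := Algebra.adjoin S {τΩ}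
  haveI : Module.Finite S S1 := Module.Finite.iff_fg.2 hτint.fg_adjoin_singleton
  haveI : IsLocalRing S1 := Groth.L05.isLocalRing_of_finite_domain (A := S) S1
  haveI : IsLocalHom (algebraMap S S1) := ((IsLocalRing.local_hom_TFAE _).out 0 4).mpr (by
    have : ((maximalIdeal S1).comap (algebraMap S S1)).IsMaximal :=
      Ideal.isMaximal_comap_of_isIntegral_of_isMaximal _
    exact IsLocalRing.eq_maximalIdeal this)
  let τ1 : S1 := ⟨τΩ, Algebra.self_mem_adjoin_singleton S τΩ⟩
  have hτ1 : τ1 ∈ maximalIdeal S1 := (maximalIdeal.isMaximal S1).isPrime.mem_of_pow_mem p (by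
    rw [show τ1 ^ p = algebraMap S S1 tS from Subtype.ext hτΩ]
    exact (mem_maximalIdeal _).2 fun h => htS (isUnit_of_map_unit (algebraMap S S1) _ h))
  have hres : ∀ x : S1, ∃ s : S, x - algebraMap S S1 s ∈ maximalIdeal S1 := by
    rintro ⟨x, hx⟩
    obtain ⟨P, rfl⟩ := (Algebra.adjoin_singleton_eq_range_aeval S τΩ).le hx
    refine ⟨P.coeff 0, ?_⟩
    have : (⟨Polynomial.aeval τΩ P, hx⟩ : S1) = Polynomial.aeval τ1 P := Subtype.ext (by
      rw [Polynomial.aeval_subalgebra_coe])
    have h2 := congrArg (Polynomial.aeval τ1) (Polynomial.X_mul_divX_add P)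
    rw [map_add, map_mul, Polynomial.aeval_X, Polynomial.aeval_C] at h2
    show (⟨Polynomial.aeval τΩ P, hx⟩ : S1) - _ ∈ _
    rw [this, ← h2, add_sub_cancel_right]
    exact Ideal.mul_mem_right _ _ hτ1
  have hR1 : ∀ x : R1, algebraMap R1 Ω x ∈ S1 := by
    intro x
    have hx : x ∈ Algebra.adjoin R {τ} := hgen ▸ Algebra.mem_top
    induction hx using Algebra.adjoin_induction with
    | mem y hy => rw [Set.mem_singleton_iff] at hy; subst hy; exact τ1.2
    | algebraMap a =>
      rw [← IsScalarTower.algebraMap_apply R R1 Ω, IsScalarTower.algebraMap_apply R S Ω]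
      exact S1.algebraMap_mem _
    | add x y _ _ hx hy => rw [map_add]; exact add_mem hx hy
    | mul x y _ _ hx hy => rw [map_mul]; exact mul_mem hx hy
  letI : Algebra R1 S1 := (RingHom.codRestrict (algebraMap R1 Ω) S1.toSubsemiring hR1).toAlgebra
  haveI : IsScalarTower R1 S1 Ω := IsScalarTower.of_algebraMap_eq fun _ => rfl
  -- the field of the root
  have hirr : Irreducible (X ^ p - Polynomial.C (algebraMap S Ks tS)) := by
    refine X_pow_sub_C_irreducible_of_prime hp fun b hb => ?_
    obtain ⟨s, rfl⟩ := IsIntegrallyClosed.isIntegral_iff.1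
      (IsIntegral.of_pow hp.pos (hb ▸ (isIntegral_algebraMap : IsIntegral S (algebraMap S Ks tS))))
    rw [← map_pow] at hb
    have hst := IsFractionRing.injective S Ks hb
    have hs : s ∈ maximalIdeal S := (maximalIdeal.isMaximal S).isPrime.mem_of_pow_mem p (hst ▸ htS)
    exact htS2 (hst ▸ Ideal.pow_le_pow_right hp.two_le (Ideal.pow_mem_pow hs p))
  let L1 : IntermediateField Ks Ω := IntermediateField.adjoin Ks {τΩ}
  have haev : Polynomial.aeval τΩ (X ^ p - Polynomial.C (algebraMap S Ks tS)) = 0 := by
    rw [map_sub, Polynomial.aeval_X_pow, Polynomial.aeval_C, ← IsScalarTower.algebraMap_apply, hτΩ, sub_self]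
  have hmin : minpoly Ks τΩ = X ^ p - Polynomial.C (algebraMap S Ks tS) :=
    (minpoly.eq_of_irreducible_of_monic hirr haev (monic_X_pow_sub_C _ hp.ne_zero)).symm
  have hdegL : Module.finrank Ks L1 = p := by
    rw [IntermediateField.adjoin.finrank (IsIntegral.tower_top hτint), hmin, natDegree_X_pow_sub_C]
  have hS1L : ∀ z : Ω, z ∈ S1 → z ∈ L1 := fun z hz => by
    induction hz using Algebra.adjoin_induction with
    | mem y hy => exact IntermediateField.subset_adjoin Ks _ hy
    | algebraMap a => rw [IsScalarTower.algebraMap_apply S Ks Ω]; exact L1.algebraMap_mem _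
    | add x y _ _ hx hy => exact add_mem hx hy
    | mul x y _ _ hx hy => exact mul_mem hx hy
  -- every conjugate lies in the field of the root
  have hconj : ∀ (σ : M →ₐ[K] Ω) (c : M), IsIntegral R c → σ c ∈ S1 := by
    intro σ c hc
    let b := Module.finBasis K M
    let T : Finset Ω := Finset.univ.image fun i => σ (b i)
    let M1 : IntermediateField K1 Ω := IntermediateField.adjoin K1 (T : Set Ω)
    have hsepT : ∀ z ∈ (T : Set Ω), IsSeparable K1 z := by
      intro z hz
      obtain ⟨i, -, rfl⟩ := Finset.mem_image.1 (Finset.mem_coe.1 hz)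
      refine IsSeparable.tower_top (F := K) K1 ?_
      exact (Algebra.IsSeparable.isSeparable K (b i)).map σ σ.injective
    haveI : FiniteDimensional K1 M1 := IntermediateField.finiteDimensional_adjoin fun z hz => (hsepT z hz).isIntegral
    haveI : Algebra.IsSeparable K1 M1 := (IntermediateField.isSeparable_adjoin_iff_isSeparable K1 Ω).2 hsepT
    have hσM1 : ∀ m, σ m ∈ M1 := fun m => by
      rw [← b.sum_repr m, map_sum]
      refine sum_mem fun i _ => ?_
      rw [map_smul, Algebra.smul_def, IsScalarTower.algebraMap_apply K K1 Ω]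
      exact mul_mem (M1.algebraMap_mem _) (IntermediateField.subset_adjoin K1 _
        (Finset.mem_coe.2 (Finset.mem_image_of_mem _ (Finset.mem_univ i))))
    letI : Algebra R M1 := ((algebraMap R1 M1).comp (algebraMap R R1)).toAlgebra
    haveI : IsScalarTower R R1 M1 := IsScalarTower.of_algebraMap_eq' rfl
    let σ' : M →ₐ[R] M1 := AlgHom.mk (RingHom.codRestrict σ.toRingHom M1.toSubalgebra.toSubsemiring hσM1) fun a =>
      Subtype.ext (by
        show σ (algebraMap R M a) = algebraMap R1 Ω (algebraMap R R1 a)
        rw [IsScalarTower.algebraMap_apply R K M, σ.commutes, ← IsScalarTower.algebraMap_apply,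
          ← IsScalarTower.algebraMap_apply])
    have hgen1 : Algebra.adjoin K1 (Set.range σ') = ⊤ := by
      apply Subalgebra.map_injective (f := M1.val) Subtype.val_injective
      rw [AlgHom.map_adjoin, Algebra.map_top, IntermediateField.range_val]
      refine le_antisymm (Algebra.adjoin_le ?_) ?_
      · rintro _ ⟨_, ⟨m, rfl⟩, rfl⟩
        exact hσM1 m
      · rw [show M1.toSubalgebra = Algebra.adjoin K1 (T : Set Ω) from
          IntermediateField.adjoin_toSubalgebra_of_isAlgebraic fun z hz => (hsepT z hz).isIntegral.isAlgebraic]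
        refine Algebra.adjoin_mono fun z hz => ?_
        obtain ⟨i, -, rfl⟩ := Finset.mem_image.1 (Finset.mem_coe.1 hz)
        exact ⟨σ' (b i), ⟨b i, rfl⟩, rfl⟩
    haveI := hgood M1 σ' hgen1
    let C1 := integralClosure R1 M1
    haveI : IsIntegrallyClosed R1 := Groth.L03.RegularNormal.isIntegrallyClosed R1
    haveI : Module.Finite R1 C1 := IsIntegralClosure.finite R1 K1 M1 C1
    let Θ : S1 ⊗[R1] C1 →ₐ[S1] Ω := Algebra.TensorProduct.lift (Algebra.ofId S1 Ω)
      (((M1.val).restrictScalars R1).comp C1.val) fun _ _ => Commute.all _ _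
    haveI : Algebra.FormallyUnramified S1 Θ.range :=
      Algebra.FormallyUnramified.of_surjective Θ.rangeRestrict Θ.rangeRestrict_surjective
    haveI : Module.Finite S1 Θ.range :=
      Module.Finite.of_surjective Θ.rangeRestrict.toLinearMap Θ.rangeRestrict_surjective
    have hsur := surjective_of_formallyUnramified S S1 Θ.range hres
    have hcint : IsIntegral R1 (σ' c) := (hc.map σ').tower_top
    have hmem : σ c ∈ Θ.range := ⟨1 ⊗ₜ ⟨σ' c, hcint⟩, by simp [Θ, σ']; rfl⟩
    obtain ⟨s, hs⟩ := hsur ⟨σ c, hmem⟩
    have hsc : (s : Ω) = σ c := congrArg Subtype.val hs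
    exact hsc ▸ s.2
  -- no conjugate needs the root
  let g : ∀ _ : M →ₐ[K] Ω, M →+* Ω := fun σ => σ.toRingHom
  have hbot : ∀ (σ : M →ₐ[K] Ω) (c : M), IsIntegral R c → σ c ∈ Set.range (algebraMap S Ω) := by
    intro σ₀ c₀ hc₀
    let Ms : IntermediateField Ks Ω := IntermediateField.adjoin Ks (σ₀ '' {c | IsIntegral R c})
    have hle : Ms ≤ L1 := IntermediateField.adjoin_le_iff.2 (by
      rintro _ ⟨c, hc, rfl⟩
      exact hS1L _ (hconj σ₀ c hc))
    have hcMs : σ₀ c₀ ∈ Ms := IntermediateField.subset_adjoin Ks _ ⟨c₀, hc₀, rfl⟩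
    rcases hp.eq_one_or_self_of_dvd (Module.finrank Ks Ms)
        (hdegL ▸ IntermediateField.finrank_dvd_of_le_right hle) with h1 | hpdeg
    · rw [IntermediateField.finrank_eq_one_iff] at h1
      rw [h1, IntermediateField.mem_bot] at hcMs
      obtain ⟨z, hz⟩ := hcMs
      have hz' : IsIntegral S z := (isIntegral_algHom_iff (IsScalarTower.toAlgHom S Ks Ω) (algebraMap Ks Ω).injective).1
        (by rw [IsScalarTower.coe_toAlgHom', hz]; exact (hc₀.map (σ₀.restrictScalars R)).tower_top)
      obtain ⟨s, rfl⟩ := IsIntegrallyClosed.isIntegral_iff.1 hz'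
      exact ⟨s, by rw [← hz, ← IsScalarTower.algebraMap_apply]⟩
    exfalso
    haveI : FiniteDimensional Ks L1 := IntermediateField.adjoin.finiteDimensional (IsIntegral.tower_top hτint)
    have hMsL : Ms = L1 := IntermediateField.eq_of_le_of_finrank_eq hle (hpdeg.trans hdegL.symm)
    -- a height one prime containing `p` but not `t`
    have hpS : (p : S) ∈ maximalIdeal S := by
      rw [← map_natCast (algebraMap R S), ← hmS]; exact Ideal.mem_map_of_mem _ hpm
    obtain ⟨q, hq, -⟩ := Ideal.exists_minimalPrimes_le (I := Ideal.span {(p : S)}) (J := maximalIdeal S)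
      ((Ideal.span_singleton_le_iff_mem _).2 hpS)
    haveI hqp : q.IsPrime := hq.1.1
    have hpq : (p : S) ∈ q := hq.1.2 (Ideal.mem_span_singleton_self _)
    have hqh : q.height ≤ 1 := Ideal.height_le_one_of_isPrincipal_of_mem_minimalPrimes (Ideal.span {(p : S)}) q hq
    have hpnQt : (p : S) ∉ Qt := fun h => hpt (by
      rw [← hQtR, Ideal.mem_comap, map_natCast]; exact h)
    have htq : tS ∉ q := fun h => by
      have hle : Qt ≤ q := (Ideal.span_singleton_le_iff_mem _).2 h
      rcases eq_or_lt_of_le hle with heq | hlt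
      · exact hpnQt (heq ▸ hpq)
      · have h1 := Ideal.height_strict_mono_of_isPrime hlt
        have h2 : Qt.height ≠ 0 := fun h0 =>
          htSp.ne_zero (Ideal.span_singleton_eq_bot.1 (Ideal.height_eq_zero_iff_eq_bot.1 h0))
        exact h2 (Order.lt_one_iff.1 (h1.trans_le hqh))
    let 𝔭 := q.comap (algebraMap R S)
    haveI : q.LiesOver 𝔭 := ⟨rfl⟩
    have hp𝔭 : (p : R) ∈ 𝔭 := by rw [Ideal.mem_comap, map_natCast]; exact hpq
    have h𝔭 : 𝔭.height = 1 := by
      refine le_antisymm ((le_add_right le_rfl).trans
        ((Ideal.height_eq_height_add_of_liesOver_of_hasGoingDown 𝔭 q).symm.le.trans hqh)) ?_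
      refine Order.one_le_iff_ne_zero.2 fun h0 => hpt ?_
      rw [Ideal.height_eq_zero_iff_eq_bot.1 h0, Ideal.mem_bot] at hp𝔭
      rw [hp𝔭]
      exact zero_mem _
    have hq1 : q.height = 1 := le_antisymm hqh (h𝔭 ▸ (le_add_right le_rfl).trans
      (Ideal.height_eq_height_add_of_liesOver_of_hasGoingDown 𝔭 q).symm.le)
    obtain ⟨a, ha, hfu⟩ := exists_formallyUnramified_away (C := C) 𝔭 fun P' _ hP' =>
      hp1 P' (hP' ▸ h𝔭) (hP' ▸ hp𝔭)
    let Ca := Localization.Away (algebraMap R C a)
    let Sq := Localization.AtPrime q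
    haveI : IsDiscreteValuationRing Sq := isDiscreteValuationRing_atPrime q hq1
    haveI : IsDomain Sq := IsLocalization.isDomain_localization q.primeCompl_le_nonZeroDivisors
    have hunitq : ∀ y : q.primeCompl, IsUnit (algebraMap S Ω y) := fun y => isUnit_iff_ne_zero.2 fun h => y.2 (by
      rw [hSΩ (h.trans (map_zero _).symm)]; exact q.zero_mem)
    have hunitK : ∀ y : q.primeCompl, IsUnit (algebraMap S Ks y) := fun y => isUnit_iff_ne_zero.2 fun h => y.2 (by
      rw [IsFractionRing.injective S Ks (h.trans (map_zero _).symm)]; exact q.zero_mem)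
    letI : Algebra Sq Ks := (IsLocalization.lift hunitK : Sq →+* Ks).toAlgebra
    haveI : IsScalarTower S Sq Ks := IsScalarTower.of_algebraMap_eq fun c => (IsLocalization.lift_eq hunitK c).symm
    haveI : IsScalarTower S Sq Ω := IsScalarTower.of_algebraMap_eq fun c => by
      rw [IsScalarTower.algebraMap_apply Sq Ks Ω, ← IsScalarTower.algebraMap_apply S Sq Ks,
        ← IsScalarTower.algebraMap_apply S Ks Ω]
    haveI : IsScalarTower R Sq Ω := IsScalarTower.of_algebraMap_eq fun c => by
      rw [IsScalarTower.algebraMap_apply R S Sq, ← IsScalarTower.algebraMap_apply S Sq Ω,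
        ← IsScalarTower.algebraMap_apply R S Ω]
    have hinjSq : Function.Injective (algebraMap Sq Ω) := by
      rw [IsScalarTower.algebraMap_eq Sq Ks Ω]
      refine (algebraMap Ks Ω).injective.comp
        ((IsLocalization.lift_injective_iff hunitK).2 fun x y => ⟨fun h => congrArg _ ?_, fun h => congrArg _ ?_⟩)
      · exact IsLocalization.injective Sq q.primeCompl_le_nonZeroDivisors h
      · exact IsFractionRing.injective S Ks h
    have haq : IsUnit (algebraMap R Sq a) := by
      rw [IsScalarTower.algebraMap_apply R S Sq]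
      exact IsLocalization.map_units Sq (⟨algebraMap R S a, ha⟩ : q.primeCompl)
    let σC : C →ₐ[R] Ω := (σ₀.restrictScalars R).comp C.val
    have haC : IsUnit (σC (algebraMap R C a)) := by
      rw [σC.commutes, IsScalarTower.algebraMap_apply R Sq Ω]
      exact haq.map _
    let σar : Ca →+* Ω := IsLocalization.Away.lift (algebraMap R C a) (g := σC.toRingHom) haC
    let σa : Ca →ₐ[R] Ω := AlgHom.mk σar fun x => by
      show σar (algebraMap R Ca x) = _
      rw [IsScalarTower.algebraMap_apply R C Ca, IsLocalization.Away.lift_eq]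
      exact σC.commutes x
    have hσa : ∀ x : C, σa (algebraMap C Ca x) = σC x := fun x => IsLocalization.Away.lift_eq (g := σC.toRingHom) _ haC x
    let Θ0 : Sq ⊗[R] C →ₐ[Sq] Ω :=
      Algebra.TensorProduct.lift (Algebra.ofId Sq Ω) σC fun _ _ => Commute.all _ _
    let Θa : Sq ⊗[R] Ca →ₐ[Sq] Ω :=
      Algebra.TensorProduct.lift (Algebra.ofId Sq Ω) σa fun _ _ => Commute.all _ _
    let D2 := Θ0.range
    have hσD : ∀ x : C, σC x ∈ D2 := fun x => ⟨1 ⊗ₜ x, by simp [Θ0]⟩
    have hσaD : ∀ x : Ca, σa x ∈ D2 := fun x => by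
      obtain ⟨⟨y, ⟨_, k, rfl⟩⟩, hy⟩ := IsLocalization.surj (Submonoid.powers (algebraMap R C a)) x
      have h1 := congrArg σa hy
      rw [map_mul, hσa, hσa] at h1
      obtain ⟨w, hw⟩ := haq.pow k
      have h2 : σa x = algebraMap Sq Ω ↑w⁻¹ * σC y := by
        rw [← h1, map_pow, σC.commutes, IsScalarTower.algebraMap_apply R Sq Ω, ← map_pow, ← hw, mul_left_comm,
          ← map_mul, Units.inv_mul, map_one, mul_one]
      rw [h2]
      exact mul_mem (D2.algebraMap_mem _) (hσD y)
    have hΘa : Θa.range = D2 := by
      refine le_antisymm ?_ ?_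
      · rintro _ ⟨z, rfl⟩
        show Θa z ∈ D2
        induction z using TensorProduct.induction_on with
        | zero => rw [map_zero]; exact zero_mem _
        | add x y hx hy => rw [map_add]; exact add_mem hx hy
        | tmul k x =>
          simp only [Θa, Algebra.TensorProduct.lift_tmul]
          exact mul_mem (D2.algebraMap_mem k) (hσaD x)
      · rintro _ ⟨z, rfl⟩
        show Θ0 z ∈ Θa.range
        induction z using TensorProduct.induction_on with
        | zero => rw [map_zero]; exact zero_mem _
        | add x y hx hy => rw [map_add]; exact add_mem hx hy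
        | tmul k x => exact ⟨k ⊗ₜ algebraMap C Ca x, by simp [Θa, Θ0, hσa]⟩
    haveI : Algebra.FormallyUnramified Sq D2 := by
      haveI : Algebra.FormallyUnramified Sq Θa.range :=
        Algebra.FormallyUnramified.of_surjective Θa.rangeRestrict Θa.rangeRestrict_surjective
      exact Algebra.FormallyUnramified.of_equiv (Subalgebra.equivOfEq _ _ hΘa)
    haveI : Module.Finite Sq D2 :=
      Module.Finite.of_surjective Θ0.rangeRestrict.toLinearMap Θ0.rangeRestrict_surjective
    haveI : IsIntegrallyClosed D2 := isIntegrallyClosed_of_formallyUnramified Sq D2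
      fun x y h => hinjSq (congrArg Subtype.val h)
    -- the root lies in `D2`
    have hfrac : ∀ z ∈ Ms, ∃ (d e : D2), (e : Ω) ≠ 0 ∧ z * e = d := by
      intro z hz
      induction hz using IntermediateField.adjoin_induction with
      | mem y hy =>
        obtain ⟨c, hc, rfl⟩ := hy
        exact ⟨⟨σ₀ c, hσD ⟨c, hc⟩⟩, 1, one_ne_zero, mul_one _⟩
      | algebraMap k =>
        obtain ⟨s, u, hu, rfl⟩ := IsFractionRing.div_surjective S k
        have hu0 : algebraMap S Ω u ≠ 0 := fun h => nonZeroDivisors.ne_zero hu (hSΩ (h.trans (map_zero _).symm))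
        refine ⟨algebraMap Sq D2 (algebraMap S Sq s), algebraMap Sq D2 (algebraMap S Sq u), ?_, ?_⟩
        · show algebraMap Sq Ω (algebraMap S Sq u) ≠ 0
          rwa [← IsScalarTower.algebraMap_apply]
        · show algebraMap Ks Ω (_ / _) * algebraMap Sq Ω (algebraMap S Sq u) = algebraMap Sq Ω (algebraMap S Sq s)
          rw [map_div₀, ← IsScalarTower.algebraMap_apply, ← IsScalarTower.algebraMap_apply,
            ← IsScalarTower.algebraMap_apply, ← IsScalarTower.algebraMap_apply, div_mul_cancel₀ _ hu0]
      | add x y _ _ hx hy =>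
        obtain ⟨d, e, he, hd⟩ := hx
        obtain ⟨d', e', he', hd'⟩ := hy
        refine ⟨d * e' + d' * e, e * e', by rw [Subalgebra.coe_mul]; exact mul_ne_zero he he', ?_⟩
        simp only [Subalgebra.coe_mul, Subalgebra.coe_add, ← hd, ← hd']
        ring
      | inv x _ hx =>
        obtain ⟨d, e, he, hd⟩ := hx
        by_cases hx0 : x = 0
        · exact ⟨0, 1, one_ne_zero, by simp [hx0]⟩
        refine ⟨e, d, by rw [← hd]; exact mul_ne_zero hx0 he, ?_⟩
        rw [← hd, inv_mul_cancel_left₀ hx0]
      | mul x y _ _ hx hy =>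
        obtain ⟨d, e, he, hd⟩ := hx
        obtain ⟨d', e', he', hd'⟩ := hy
        refine ⟨d * d', e * e', by rw [Subalgebra.coe_mul]; exact mul_ne_zero he he', ?_⟩
        simp only [Subalgebra.coe_mul, ← hd, ← hd']
        ring
    have hτD : τΩ ∈ D2 := by
      obtain ⟨d, e, he, hde⟩ := hfrac τΩ (hMsL ▸ IntermediateField.subset_adjoin Ks {τΩ} rfl)
      have he0 : e ≠ 0 := fun h => he (by rw [h]; rfl)
      let Kd := FractionRing D2
      let jd : Kd →+* Ω := IsFractionRing.lift (g := D2.val.toRingHom) Subtype.val_injective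
      let x : Kd := algebraMap D2 Kd d / algebraMap D2 Kd e
      have hjx : jd x = τΩ := by
        rw [map_div₀, IsFractionRing.lift_algebraMap, IsFractionRing.lift_algebraMap]
        show (d : Ω) / (e : Ω) = τΩ
        rw [← hde, mul_div_cancel_right₀ _ he]
      have hxp : x ^ p = algebraMap D2 Kd (algebraMap Sq D2 (algebraMap S Sq tS)) := jd.injective (by
        rw [map_pow, hjx, IsFractionRing.lift_algebraMap, hτΩ]
        exact IsScalarTower.algebraMap_apply S Sq Ω tS)
      obtain ⟨y, hy⟩ := IsIntegrallyClosed.isIntegral_iff.1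
        (IsIntegral.of_pow (R := D2) hp.pos (hxp ▸ isIntegral_algebraMap))
      have : (y : Ω) = τΩ := by rw [← hjx, ← hy, IsFractionRing.lift_algebraMap]; rfl
      exact this ▸ y.2
    -- normality of the ring of the root
    haveI : IsIntegrallyClosed S1 := by
      have hm' : ∀ i : Fin 1, (fun _ => tS) i ∈ maximalIdeal S := fun _ => htS
      have hf' : LinearIndependent (ResidueField S)
          (fun i : Fin 1 => (maximalIdeal S).toCotangent ⟨tS, hm' i⟩) :=
        LinearIndependent.of_subsingleton 0 (fun h => htS2 ((Ideal.toCotangent_eq_zero _ _).1 h))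
      let n : Fin 1 → ℕ := fun _ => p
      have hn : ∀ i, 1 ≤ n i := fun _ => hp.pos
      haveI := isDomain_kummer S hf' hn
      haveI := isIntegrallyClosed_kummer S hf' hn
      haveI : Module.Finite S (SGA1.kummerAlg S (fun _ : Fin 1 => tS) n) :=
        Groth.Agent.S2921.finite_kummerAlg _ n hn
      let χ : SGA1.kummerAlg S (fun _ : Fin 1 => tS) n →ₐ[S] S1 :=
        AlgHom.mk (liftHom (algebraMap S S1) (fun _ => τ1) fun _ => Subtype.ext hτΩ)
          fun s => liftHom_algebraMap _ _ _ s
      have hker : RingHom.ker χ = ⊥ := by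
        haveI : (RingHom.ker χ).IsPrime := RingHom.ker_isPrime _
        haveI : Algebra.IsIntegral S (SGA1.kummerAlg S (fun _ : Fin 1 => tS) n) := Algebra.IsIntegral.of_finite _ _
        refine Ideal.eq_bot_of_comap_eq_bot (R := S) ?_
        rw [eq_bot_iff]
        intro s hs
        have h0 : χ (algebraMap S _ s) = 0 := hs
        rw [χ.commutes] at h0
        exact hSΩ ((congrArg Subtype.val h0).trans (map_zero _).symm)
      have hsur : Function.Surjective χ := by
        rintro ⟨x, hx⟩
        obtain ⟨P, rfl⟩ := (Algebra.adjoin_singleton_eq_range_aeval S τΩ).le hx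
        refine ⟨Polynomial.aeval (root (fun _ : Fin 1 => tS) n 0) P, ?_⟩
        rw [← Polynomial.aeval_algHom_apply]
        refine Subtype.ext ?_
        rw [Polynomial.aeval_subalgebra_coe, show χ (root (fun _ : Fin 1 => tS) n 0) = τ1 from liftHom_root (algebraMap S S1) (fun _ => τ1) (fun _ => Subtype.ext hτΩ) 0]
        rfl
      exact IsIntegrallyClosed.of_equiv
        (RingEquiv.ofBijective χ ⟨(RingHom.injective_iff_ker_eq_bot χ.toRingHom).2 hker, hsur⟩)
    let g₀ : Sq[X] := X ^ p - Polynomial.C (algebraMap S Sq tS)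
    have hgm : g₀.Monic := monic_X_pow_sub_C _ hp.ne_zero
    have hev : eval₂ (algebraMap Sq D2) ⟨τΩ, hτD⟩ g₀ = 0 := by
      refine Subtype.ext ?_
      simp only [g₀, eval₂_sub, eval₂_X_pow, eval₂_C]
      show τΩ ^ p - algebraMap Sq Ω (algebraMap S Sq tS) = 0
      rw [← IsScalarTower.algebraMap_apply, hτΩ, sub_self]
    let Λ : AdjoinRoot g₀ →ₐ[Sq] D2 := AdjoinRoot.liftAlgHom g₀ (Algebra.ofId Sq D2) ⟨τΩ, hτD⟩ hev
    have hΛroot : (Λ (AdjoinRoot.root g₀) : Ω) = τΩ := by simp [Λ]
    have hΛsur : Function.Surjective Λ := fun d => by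
      -- `d` is a multiple of an element of `S1`
      obtain ⟨w, hw⟩ := IsIntegral.exists_multiple_integral_of_isLocalization q.primeCompl (d : Ω)
        ((IsIntegral.of_finite Sq d).map D2.val)
      have hwmem : ((w : S) • (d : Ω)) ∈ S1 := by
        have hdL : (w : S) • (d : Ω) ∈ Ms := by
          rw [← algebraMap_smul Ks, Algebra.smul_def]
          refine mul_mem (Ms.algebraMap_mem _) ?_
          obtain ⟨z, hz⟩ := d.2
          rw [← hz]
          show Θ0 z ∈ Ms
          clear hz
          induction z using TensorProduct.induction_on with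
          | zero => rw [map_zero]; exact zero_mem _
          | add x y hx hy => rw [map_add]; exact add_mem hx hy
          | tmul k x =>
            simp only [Θ0, Algebra.TensorProduct.lift_tmul]
            refine mul_mem ?_ (IntermediateField.subset_adjoin Ks _ ⟨x, x.2, rfl⟩)
            obtain ⟨⟨s, u⟩, hsu⟩ := IsLocalization.surj q.primeCompl k
            have h1 := congrArg (algebraMap Sq Ω) hsu
            rw [map_mul, ← IsScalarTower.algebraMap_apply, ← IsScalarTower.algebraMap_apply] at h1
            show algebraMap Sq Ω k ∈ Ms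
            rw [eq_div_of_mul_eq (hunitq u).ne_zero h1, IsScalarTower.algebraMap_apply S Ks Ω,
              IsScalarTower.algebraMap_apply S Ks Ω]
            exact div_mem (Ms.algebraMap_mem _) (Ms.algebraMap_mem _)
        rw [hMsL] at hdL
        let Kf := FractionRing S1
        let jf : Kf →+* Ω := IsFractionRing.lift (g := S1.val.toRingHom) Subtype.val_injective
        have hjf : ∀ z : S1, jf (algebraMap S1 Kf z) = (z : Ω) := fun z => IsFractionRing.lift_algebraMap _ z
        have hr : ∀ z ∈ L1, z ∈ jf.fieldRange := by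
          intro z hz
          induction hz using IntermediateField.adjoin_induction with
          | mem y hy => rw [Set.mem_singleton_iff] at hy; subst hy; exact ⟨algebraMap S1 Kf τ1, hjf τ1⟩
          | algebraMap k =>
            obtain ⟨s, u, -, rfl⟩ := IsFractionRing.div_surjective S k
            rw [map_div₀, ← IsScalarTower.algebraMap_apply, ← IsScalarTower.algebraMap_apply]
            exact div_mem ⟨_, hjf (algebraMap S S1 s)⟩ ⟨_, hjf (algebraMap S S1 u)⟩
          | add x y _ _ hx hy => exact add_mem hx hy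
          | inv x _ hx => exact inv_mem hx
          | mul x y _ _ hx hy => exact mul_mem hx hy
        obtain ⟨z, hz⟩ := hr _ hdL
        have hzint : IsIntegral S1 z := by
          obtain ⟨P, hPm, hP0⟩ := (hw.tower_top : IsIntegral S1 ((w : S) • (d : Ω)))
          refine ⟨P, hPm, jf.injective ?_⟩
          rw [Polynomial.hom_eval₂, hz, map_zero, ← hP0]
          congr 1
          exact RingHom.ext hjf
        obtain ⟨y, rfl⟩ := IsIntegrallyClosed.isIntegral_iff.1 hzint
        rw [← hz, hjf]
        exact y.2
      obtain ⟨v, hv⟩ := IsLocalization.map_units Sq w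
      obtain ⟨P, hPd⟩ := (Algebra.adjoin_singleton_eq_range_aeval S τΩ).le hwmem
      refine ⟨algebraMap Sq (AdjoinRoot g₀) ↑v⁻¹ * Polynomial.aeval (AdjoinRoot.root g₀) (P.map (algebraMap S Sq)),
        Subtype.ext ?_⟩
      rw [map_mul, Λ.commutes, ← Polynomial.aeval_algHom_apply, Subalgebra.coe_mul, Polynomial.aeval_subalgebra_coe,
        hΛroot, Polynomial.aeval_map_algebraMap]
      show algebraMap Sq Ω ↑v⁻¹ * Polynomial.aeval τΩ P = d
      rw [show Polynomial.aeval τΩ P = (w : S) • (d : Ω) from hPd, Algebra.smul_def,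
        IsScalarTower.algebraMap_apply S Sq Ω, ← hv, ← mul_assoc, ← map_mul, Units.inv_mul, map_one, one_mul]
    have hKg : g₀.map (algebraMap Sq Ω) = (X ^ p - Polynomial.C (algebraMap S Ks tS)).map (algebraMap Ks Ω) := by
      simp [g₀, ← IsScalarTower.algebraMap_apply]
    have hΛinj : Function.Injective Λ := by
      rw [injective_iff_map_eq_zero]
      intro x hx
      induction x using AdjoinRoot.induction_on with
      | _ P =>
        refine AdjoinRoot.mk_eq_zero.2 ((Polynomial.modByMonic_eq_zero_iff_dvd hgm).1 ?_)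
        have h0 : Polynomial.aeval τΩ P = 0 := by
          rw [← hΛroot, ← Polynomial.aeval_subalgebra_coe, Polynomial.aeval_algHom_apply, AdjoinRoot.aeval_eq, hx]
          rfl
        let R' := P %ₘ g₀
        have hg0 : Polynomial.aeval τΩ g₀ = 0 := by
          rw [Polynomial.aeval_def, show algebraMap Sq Ω = D2.val.toRingHom.comp (algebraMap Sq D2) from rfl,
            show τΩ = D2.val.toRingHom ⟨τΩ, hτD⟩ from rfl, ← Polynomial.hom_eval₂, hev, map_zero]
        have h1 : Polynomial.aeval τΩ R' = 0 := by
          rw [Polynomial.aeval_modByMonic_eq_self_of_root hg0, h0]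
        let jq : Sq →+* Ks := algebraMap Sq Ks
        have hjq : (algebraMap Ks Ω).comp jq = algebraMap Sq Ω := (IsScalarTower.algebraMap_eq Sq Ks Ω).symm
        have hjqinj : Function.Injective jq := fun x y h => hinjSq (by
          rw [← hjq, RingHom.comp_apply, RingHom.comp_apply, h])
        have h2 : Polynomial.aeval τΩ (R'.map jq) = 0 := by
          rw [Polynomial.aeval_def, Polynomial.eval₂_map, hjq, ← Polynomial.aeval_def, h1]
        by_contra hne
        have hne' : R'.map jq ≠ 0 := (Polynomial.map_ne_zero_iff hjqinj).2 hne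
        have h3 := Polynomial.natDegree_le_of_dvd (minpoly.dvd Ks τΩ h2) hne'
        rw [hmin, natDegree_X_pow_sub_C, Polynomial.natDegree_map_eq_of_injective hjqinj] at h3
        have h4 := Polynomial.natDegree_modByMonic_lt P hgm (fun h => hp.ne_zero (by
          simpa [g₀] using congrArg Polynomial.natDegree h))
        rw [natDegree_X_pow_sub_C] at h4
        exact absurd h4 (not_lt.2 h3)
    refine not_formallyUnramified_adjoinRoot Sq p hp ?_ (algebraMap S Sq tS)
      (Algebra.FormallyUnramified.of_equiv (AlgEquiv.ofBijective Λ ⟨hΛinj, hΛsur⟩).symm)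
    rw [← map_natCast (algebraMap S Sq), IsLocalization.AtPrime.to_map_mem_maximal_iff Sq q]
    exact hpq
  -- conclusion
  obtain ⟨σ, ψ, hψ, hPψ⟩ := exists_algHom_comap_eq (K := K) hSΩ hbot Qt P (hP.trans hQtR.symm)
  haveI : (Ideal.span {t}).IsPrime := hQtR ▸ Ideal.comap_isPrime _ _
  haveI : P.LiesOver (Ideal.span {t}) := ⟨hP.symm⟩
  have htP : algebraMap R C t ∈ P := by
    rw [← Ideal.mem_comap, hP]; exact Ideal.mem_span_singleton_self t
  have hPh : P.height = 1 := by
    refine le_antisymm ((Groth.L13.Purity.height_le_comap (R := R) P).trans ?_) (Order.one_le_iff_ne_zero.2 fun h => ?_)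
    · rw [hP]
      exact Ideal.height_le_one_of_isPrincipal_of_mem_minimalPrimes (Ideal.span {t}) (Ideal.span {t})
        (by rw [Ideal.minimalPrimes_eq_subsingleton_self]; rfl)
    · rw [Ideal.height_eq_zero_iff_eq_bot.1 h, Ideal.mem_bot] at htP
      have h1 := congrArg ψ htP
      rw [map_zero] at h1
      have h2 := congrArg (algebraMap S Ω) h1
      rw [hψ, map_zero] at h2
      have h3 : σ (algebraMap R M t) = 0 := h2
      rw [IsScalarTower.algebraMap_apply R K M, σ.commutes, ← IsScalarTower.algebraMap_apply] at h3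
      exact htSp.ne_zero (hSΩ (h3.trans (map_zero _).symm))
  let CP := Localization.AtPrime P
  haveI : IsDiscreteValuationRing CP := isDiscreteValuationRing_atPrime P hPh
  haveI : IsDomain CP := IsLocalization.isDomain_localization P.primeCompl_le_nonZeroDivisors
  let St := Localization.AtPrime Qt
  haveI : IsDomain St := IsLocalization.isDomain_localization Qt.primeCompl_le_nonZeroDivisors
  let ψP : CP →+* St := Localization.localRingHom P Qt ψ hPψ
  have hψt : ψ (algebraMap R C t) = tS := hSΩ (by
    rw [hψ]
    show σ (algebraMap R M t) = _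
    rw [IsScalarTower.algebraMap_apply R K M, σ.commutes, ← IsScalarTower.algebraMap_apply]
    rfl)
  have hψP : ψP (algebraMap R CP t) = algebraMap S St tS := by
    rw [IsScalarTower.algebraMap_apply R C CP, Localization.localRingHom_to_map, hψt]
  have hmax : Ideal.span {algebraMap R CP t} = maximalIdeal CP := by
    refine span_eq_maximalIdeal ψP ?_ ?_ ?_
    · rw [IsScalarTower.algebraMap_apply R C CP, IsLocalization.AtPrime.to_map_mem_maximal_iff CP P]
      exact htP
    · rw [hψP]
      exact fun h => htSp.ne_zero (IsLocalization.injective St Qt.primeCompl_le_nonZeroDivisors (h.trans (map_zero _).symm))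
    · rw [hψP, ← Localization.AtPrime.map_eq_maximalIdeal, Ideal.map_span, Set.image_singleton]
  letI := Localization.AtPrime.algebraOfLiesOver (Ideal.span {t}) P
  rw [Algebra.isUnramifiedAt_iff_map_eq R (Ideal.span {t}) P]
  refine ⟨?_, by rw [Ideal.map_span, Set.image_singleton]; exact hmax⟩
  haveI : CharZero (Ideal.span {t}).ResidueField := charZero_of_inj_zero fun n hn => by
    by_contra hn0
    obtain ⟨l, hl, hlt⟩ : ∃ l : ℕ, l.Prime ∧ (l : R) ∈ Ideal.span {t} := by
      rw [← map_natCast (algebraMap R (Ideal.span {t}).ResidueField), ← RingHom.mem_ker,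
        Ideal.ker_algebraMap_residueField] at hn
      induction n using Nat.recOnMul with
      | zero => exact absurd rfl hn0
      | one =>
        rw [Nat.cast_one, ← Ideal.eq_top_iff_one] at hn
        exact absurd hn (inferInstance : (Ideal.span {t}).IsPrime).ne_top
      | prime l hl => exact ⟨l, hl, hn⟩
      | mul a b iha ihb =>
        rw [Nat.cast_mul] at hn
        rcases (inferInstance : (Ideal.span {t}).IsPrime).mem_or_mem hn with h | h
        · exact iha h (left_ne_zero_of_mul hn0)
        · exact ihb h (right_ne_zero_of_mul hn0)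
    have hlp : l = p := by
      by_contra hne
      obtain ⟨x, y, hxy⟩ := Nat.isCoprime_iff_coprime.2 ((Nat.coprime_primes hl hp).2 hne)
      refine (maximalIdeal.isMaximal R).ne_top ((Ideal.eq_top_iff_one _).2 ?_)
      have h1 : (x : R) * (l : R) + (y : R) * (p : R) = 1 := by
        have := congrArg (fun z : ℤ => (z : R)) hxy
        push_cast at this
        exact this
      rw [← h1]
      exact add_mem (Ideal.mul_mem_left _ _ ((Ideal.span_singleton_le_iff_mem _).2 ht hlt)) (Ideal.mul_mem_left _ _ hpm)
    exact hpt (hlp ▸ hlt)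
  infer_instance

end Groth.L27.AbsAbh
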