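import Groth.Agent.S2921
import Groth.Agent.L13.Purity.Params
import Groth.Agent.L03.RegularNormal
import Mathlib.Algebra.DualNumber
import Mathlib.RingTheory.DiscreteValuationRing.TFAE
import Mathlib.RingTheory.Ideal.KrullsHeightTheorem

/-! Kummer algebras over a regular local ring: the roots are prime parameters. -/

set_option autoImplicit false
set_option linter.style.haveILetI false

universe u

open IsLocalRing MvPolynomial TrivSqZeroExt

namespace Groth.L27.AbsAbh

/-- the chosen root of `f i` in the Kummer algebra -/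
noncomputable def root {A : Type u} [CommRing A] {r : ℕ} (f : Fin r → A) (n : Fin r → ℕ) (i : Fin r) :
    SGA1.kummerAlg A f n :=
  Ideal.Quotient.mk _ (X i)

theorem root_pow {A : Type u} [CommRing A] {r : ℕ} (f : Fin r → A) (n : Fin r → ℕ) (i : Fin r) :
    root f n i ^ n i = algebraMap A (SGA1.kummerAlg A f n) (f i) :=
  Groth.Agent.S2921.X_pow_eq f n i

/-- ring maps out of a Kummer algebra -/
noncomputable def liftHom {A : Type u} [CommRing A] {r : ℕ} {f : Fin r → A} {n : Fin r → ℕ}
    {S : Type*} [CommRing S] (g : A →+* S) (x : Fin r → S) (h : ∀ i, x i ^ n i = g (f i)) :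
    SGA1.kummerAlg A f n →+* S :=
  Ideal.Quotient.lift _ (eval₂Hom g x) (by
    intro a ha
    rw [← RingHom.mem_ker]
    refine Ideal.span_le.mpr ?_ ha
    rintro _ ⟨i, rfl⟩
    rw [SetLike.mem_coe, RingHom.mem_ker]
    simp [h i])

section liftHom

variable {A : Type u} [CommRing A] {r : ℕ} {f : Fin r → A} {n : Fin r → ℕ}
    {S : Type*} [CommRing S] (g : A →+* S) (x : Fin r → S) (h : ∀ i, x i ^ n i = g (f i))

theorem liftHom_root (i : Fin r) : liftHom g x h (root f n i) = x i := by
  simp [liftHom, root]

theorem liftHom_algebraMap (a : A) : liftHom g x h (algebraMap A _ a) = g a := by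
  rw [IsScalarTower.algebraMap_apply A (MvPolynomial (Fin r) A) (SGA1.kummerAlg A f n),
    Ideal.Quotient.algebraMap_eq, MvPolynomial.algebraMap_eq]
  simp [liftHom]

end liftHom

/-- the Kummer algebra is generated by the roots -/
theorem kummer_induction {A : Type u} [CommRing A] {r : ℕ} {f : Fin r → A} {n : Fin r → ℕ}
    {p : SGA1.kummerAlg A f n → Prop} (hC : ∀ a, p (algebraMap A _ a))
    (hadd : ∀ x y, p x → p y → p (x + y)) (hmul : ∀ x i, p x → p (x * root f n i))
    (x : SGA1.kummerAlg A f n) : p x := by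
  obtain ⟨P, rfl⟩ := Ideal.Quotient.mk_surjective x
  induction P using MvPolynomial.induction_on with
  | C a =>
    have h := hC a
    rwa [IsScalarTower.algebraMap_apply A (MvPolynomial (Fin r) A) (SGA1.kummerAlg A f n),
      Ideal.Quotient.algebraMap_eq, MvPolynomial.algebraMap_eq] at h
  | add P Q hP hQ => rw [map_add]; exact hadd _ _ hP hQ
  | mul_X P i hP => rw [map_mul]; exact hmul _ i hP

variable (A : Type u) [CommRing A] [IsRegularLocalRing A] {r : ℕ} {f : Fin r → A}
  {hm : ∀ i, f i ∈ maximalIdeal A}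

theorem notMem_sup (hf : LinearIndependent (ResidueField A) (fun i => (maximalIdeal A).toCotangent ⟨f i, hm i⟩))
    (i : Fin r) : f i ∉ maximalIdeal A ^ 2 ⊔ Ideal.span (f '' {j | j ≠ i}) := by
  classical
  intro h
  obtain ⟨y, hy, z, hz, hyz⟩ := Submodule.mem_sup.1 h
  have hle : Ideal.span (f '' {j | j ≠ i}) ≤ maximalIdeal A := Ideal.span_le.2 (by
    rintro _ ⟨j, -, rfl⟩; exact hm j)
  have h1 : (maximalIdeal A).toCotangent ⟨f i, hm i⟩ = (maximalIdeal A).toCotangent ⟨z, hle hz⟩ := by
    rw [Ideal.toCotangent_eq]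
    show f i - z ∈ _
    rwa [← hyz, add_sub_cancel_right]
  refine hf.notMem_span_image (s := {j | j ≠ i}) (x := i) (by simp) ?_
  rw [h1]
  let V : Submodule A (CotangentSpace A) :=
    (Submodule.span (ResidueField A)
      ((fun j => (maximalIdeal A).toCotangent ⟨f j, hm j⟩) '' {j | j ≠ i})).restrictScalars A
  let W : Submodule A A := (V.comap (maximalIdeal A).toCotangent).map (maximalIdeal A).subtype
  have hW : Ideal.span (f '' {j | j ≠ i}) ≤ W := by
    refine Ideal.span_le.2 ?_
    rintro _ ⟨j, hj, rfl⟩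
    exact ⟨⟨f j, hm j⟩, Submodule.subset_span ⟨j, hj, rfl⟩, rfl⟩
  obtain ⟨w, hw, hwz⟩ := hW hz
  rwa [show (⟨z, hle hz⟩ : maximalIdeal A) = w from Subtype.ext hwz.symm]

variable (hf : LinearIndependent (ResidueField A) (fun i => (maximalIdeal A).toCotangent ⟨f i, hm i⟩))
  {n : Fin r → ℕ} (hn : ∀ i, 1 ≤ n i)

include hf hn

theorem isRegular_kummer : IsRegularLocalRing (SGA1.kummerAlg A f n) :=
  Groth.Agent.S2921.regular_kummerAlg f n hm hf hn

theorem root_mem (i : Fin r) [IsLocalRing (SGA1.kummerAlg A f n)] :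
    root f n i ∈ maximalIdeal (SGA1.kummerAlg A f n) := by
  rw [mem_maximalIdeal]
  intro hu
  let χ := liftHom (f := f) (n := n) (residue A) (fun _ => (0 : ResidueField A)) (fun j => by
    rw [zero_pow (by have := hn j; omega), (residue_eq_zero_iff (f j)).mpr (hm j)])
  have h := hu.map χ
  rw [liftHom_root] at h
  exact not_isUnit_zero h

theorem root_notMem_sq (i : Fin r) [IsLocalRing (SGA1.kummerAlg A f n)] :
    root f n i ∉ maximalIdeal (SGA1.kummerAlg A f n) ^ 2 := by
  classical
  rcases (hn i).eq_or_lt with h1 | h2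
  · let J := Ideal.span (f '' {j | j ≠ i})
    let χ := liftHom (f := f) (n := n) (Ideal.Quotient.mk J)
      (fun j => if j = i then Ideal.Quotient.mk J (f i) else 0) (fun j => by
        by_cases h : j = i
        · subst h; rw [if_pos rfl, ← h1, pow_one]
        · rw [if_neg h, zero_pow (by have := hn j; omega)]
          exact (Ideal.Quotient.eq_zero_iff_mem.2 (Ideal.subset_span ⟨j, h, rfl⟩ : f j ∈ J)).symm)
    have hle : (maximalIdeal (SGA1.kummerAlg A f n)).map χ ≤ (maximalIdeal A).map (Ideal.Quotient.mk J) := by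
      have hJ : J ≤ maximalIdeal A := Ideal.span_le.2 (by rintro _ ⟨j, -, rfl⟩; exact hm j)
      have hs : ∀ x, χ x ∈ Set.range (Ideal.Quotient.mk J) := fun x => Ideal.Quotient.mk_surjective _
      refine Ideal.map_le_iff_le_comap.2 fun x hx => ?_
      obtain ⟨a, ha⟩ := hs x
      refine Ideal.mem_comap.2 (ha ▸ Ideal.mem_map_of_mem _ ?_)
      rw [mem_maximalIdeal] at hx ⊢
      intro hu
      refine hx ?_
      haveI : Nontrivial (A ⧸ J) := Ideal.Quotient.nontrivial_iff.2 (ne_top_of_le_ne_top
        (maximalIdeal.isMaximal A).ne_top hJ)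
      haveI : IsLocalRing (A ⧸ J) := IsLocalRing.of_surjective' _ Ideal.Quotient.mk_surjective
      have hsur : Function.Surjective χ := fun y => by
        obtain ⟨b, rfl⟩ := Ideal.Quotient.mk_surjective y
        exact ⟨algebraMap A _ b, liftHom_algebraMap _ _ _ b⟩
      haveI : IsLocalHom χ := hsur.isLocalHom
      exact isUnit_of_map_unit χ x (ha ▸ hu.map _)
    intro h
    have h3 := Ideal.mem_map_of_mem χ h
    rw [Ideal.map_pow, liftHom_root, if_pos rfl] at h3
    have h4 := Ideal.pow_right_mono hle 2 h3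
    rw [← Ideal.map_pow, ← Ideal.mem_comap, Ideal.comap_map_of_surjective _ Ideal.Quotient.mk_surjective,
      ← RingHom.ker_eq_comap_bot, Ideal.mk_ker] at h4
    exact notMem_sup A hf i h4
  · let k := ResidueField A
    let χ := liftHom (f := f) (n := n) ((inlHom k k).comp (residue A))
      (fun j => if j = i then (DualNumber.eps : DualNumber k) else 0) (fun j => by
        rw [RingHom.comp_apply, (residue_eq_zero_iff (f j)).mpr (hm j), map_zero]
        by_cases h : j = i
        · subst h
          rw [if_pos rfl, show n j = 2 + (n j - 2) by omega, pow_add, pow_two, DualNumber.eps_mul_eps, zero_mul]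
        · rw [if_neg h, zero_pow (by have := hn j; omega)])
    let χ0 : SGA1.kummerAlg A f n →+* k := (fstHom k k k).toRingHom.comp χ
    have hsur : Function.Surjective χ0 := fun y => by
      obtain ⟨b, rfl⟩ := residue_surjective y
      refine ⟨algebraMap A _ b, ?_⟩
      show (χ (algebraMap A _ b)).fst = _
      rw [liftHom_algebraMap]
      rfl
    haveI : IsLocalHom χ0 := hsur.isLocalHom
    have h0 : ∀ x ∈ maximalIdeal (SGA1.kummerAlg A f n), (χ x).fst = 0 := fun x hx => by
      by_contra h
      exact hx (isUnit_of_map_unit χ0 x (isUnit_iff_ne_zero.2 h))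
    intro h
    have h3 : χ (root f n i) = 0 := by
      refine Submodule.mul_induction_on (C := fun x => χ x = 0) (pow_two (maximalIdeal (SGA1.kummerAlg A f n)) ▸ h)
        (fun x hx y hy => ?_) (fun x y hx hy => by rw [map_add, hx, hy, add_zero])
      rw [map_mul]
      refine TrivSqZeroExt.ext ?_ ?_
      · rw [fst_mul, h0 x hx, zero_mul, fst_zero]
      · rw [snd_mul, h0 x hx, h0 y hy]
        simp
    rw [liftHom_root, if_pos rfl] at h3
    exact one_ne_zero (congrArg TrivSqZeroExt.snd h3 : (1 : k) = 0)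

theorem root_prime (i : Fin r) : Prime (root f n i) := by
  haveI := isRegular_kummer A hf hn
  exact Groth.L13.Purity.prime_of_notMem_sq (root_mem A hf hn i) (root_notMem_sq A hf hn i)

theorem isDomain_kummer : IsDomain (SGA1.kummerAlg A f n) := by
  haveI := isRegular_kummer A hf hn
  exact Groth.L01.isDomain_of_regular _

theorem isIntegrallyClosed_kummer : IsIntegrallyClosed (SGA1.kummerAlg A f n) := by
  haveI := isRegular_kummer A hf hn
  haveI := isDomain_kummer A hf hn
  exact Groth.L03.RegularNormal.isIntegrallyClosed _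

omit hf in
theorem injective_kummer : Function.Injective (algebraMap A (SGA1.kummerAlg A f n)) := by
  haveI := Groth.L01.isDomain_of_regular A
  exact Groth.Agent.S2921.injective_kummerAlg f n hn

theorem comap_span_root (i : Fin r) [(Ideal.span {f i}).IsPrime] :
    (Ideal.span {root f n i}).comap (algebraMap A (SGA1.kummerAlg A f n)) = Ideal.span {f i} := by
  haveI := Groth.L01.isDomain_of_regular A
  haveI := Groth.L03.RegularNormal.isIntegrallyClosed A
  haveI := isDomain_kummer A hf hn
  haveI := Groth.Agent.S2921.finite_kummerAlg f n hn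
  have hinj := injective_kummer A hn (f := f) (n := n)
  refine le_antisymm (fun a ha => ?_) ((Ideal.span_singleton_le_iff_mem _).2 ?_)
  · obtain ⟨x, hx⟩ := Ideal.mem_span_singleton.1 (Ideal.mem_comap.1 ha)
    refine (inferInstance : (Ideal.span {f i}).IsPrime).mem_of_pow_mem (n i) (Ideal.mem_span_singleton.2 ?_)
    have hx' : algebraMap A (SGA1.kummerAlg A f n) (a ^ n i) = algebraMap A _ (f i) * x ^ n i := by
      rw [map_pow, hx, mul_pow, root_pow]
    by_cases hfi : f i = 0
    · rw [hfi, map_zero, zero_mul, ← map_zero (algebraMap A (SGA1.kummerAlg A f n))] at hx'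
      rw [hinj hx', hfi]
    let K := FractionRing A
    let L := FractionRing (SGA1.kummerAlg A f n)
    haveI : FaithfulSMul A (SGA1.kummerAlg A f n) := (faithfulSMul_iff_algebraMap_injective _ _).2 hinj
    letI : Algebra K L := FractionRing.liftAlgebra A L
    have hint : IsIntegral A (algebraMap A K (a ^ n i) / algebraMap A K (f i)) := by
      refine (isIntegral_algHom_iff (IsScalarTower.toAlgHom A K L) (algebraMap K L).injective).1 ?_
      rw [IsScalarTower.coe_toAlgHom', map_div₀, ← IsScalarTower.algebraMap_apply, ← IsScalarTower.algebraMap_apply,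
        IsScalarTower.algebraMap_apply A (SGA1.kummerAlg A f n) L, hx', map_mul,
        ← IsScalarTower.algebraMap_apply, mul_div_cancel_left₀ _ ?_]
      · exact (IsIntegral.of_finite A (x ^ n i)).map (IsScalarTower.toAlgHom A (SGA1.kummerAlg A f n) L)
      · rw [IsScalarTower.algebraMap_apply A K L]
        simpa using hfi
    obtain ⟨c, hc⟩ := IsIntegrallyClosed.isIntegral_iff.1 hint
    refine ⟨c, IsFractionRing.injective A K ?_⟩
    rw [map_mul, hc]
    have h0 : algebraMap A K (f i) ≠ 0 := by simpa using hfi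
    exact (mul_div_cancel₀ _ h0).symm
  · rw [Ideal.mem_comap, ← root_pow]
    exact Ideal.pow_mem_of_mem _ (Ideal.mem_span_singleton_self _) _ (hn i)

end Groth.L27.AbsAbh

namespace Groth.L27.AbsAbh

/-- a uniformizer is recognised in a dominating local ring where it generates the maximal ideal -/
theorem span_eq_maximalIdeal {C W : Type*} [CommRing C] [IsDomain C] [IsDiscreteValuationRing C] [CommRing W]
    [IsLocalRing W] [IsDomain W] (ψ : C →+* W) [IsLocalHom ψ] {t : C} (ht : t ∈ maximalIdeal C) (ht0 : ψ t ≠ 0)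
    (hW : maximalIdeal W = Ideal.span {ψ t}) : Ideal.span {t} = maximalIdeal C := by
  obtain ⟨ϖ, hϖ⟩ := IsDiscreteValuationRing.exists_irreducible C
  have ht' : t ≠ 0 := fun h => ht0 (by rw [h, map_zero])
  obtain ⟨e, u, rfl⟩ := IsDiscreteValuationRing.eq_unit_mul_pow_irreducible ht' hϖ
  match e with
  | 0 => simp at ht
  | 1 => rw [pow_one, Ideal.span_singleton_mul_left_unit u.isUnit, hϖ.maximalIdeal_eq]
  | e + 2 =>
    exfalso
    have h1 : ψ ϖ ∈ maximalIdeal W := (mem_maximalIdeal _).2 fun h => hϖ.not_isUnit (isUnit_of_map_unit ψ _ h)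
    rw [hW, Ideal.mem_span_singleton] at h1
    obtain ⟨w, hw⟩ := h1
    set s := ψ (↑u * ϖ ^ (e + 2)) with hs
    have h2 : s * (1 - ψ u * s * w ^ 2 * (ψ ϖ) ^ e) = 0 := by
      have : s = ψ u * (ψ ϖ) ^ 2 * (ψ ϖ) ^ e := by
        rw [hs, map_mul, map_pow, pow_add]
        ring
      linear_combination this + ψ u * (ψ ϖ) ^ e * (ψ ϖ + s * w) * hw
    have h3 := (sub_eq_zero.1 ((mul_eq_zero.1 h2).resolve_left ht0)).symm
    have h4 : IsUnit s := IsUnit.of_mul_eq_one (ψ u * w ^ 2 * ψ ϖ ^ e) (by linear_combination h3)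
    exact (maximalIdeal.isMaximal W).ne_top
      (Ideal.eq_top_of_isUnit_mem _ (hW ▸ Ideal.mem_span_singleton_self _) h4)

/-- a normal noetherian domain is a discrete valuation ring at height one primes -/
theorem isDiscreteValuationRing_atPrime {C : Type*} [CommRing C] [IsDomain C] [IsNoetherianRing C]
    [IsIntegrallyClosed C] (P : Ideal C) [P.IsPrime] (hP : P.height = 1) :
    IsDiscreteValuationRing (Localization.AtPrime P) := by
  haveI : IsDomain (Localization.AtPrime P) :=
    IsLocalization.isDomain_localization P.primeCompl_le_nonZeroDivisors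
  haveI : IsIntegrallyClosed (Localization.AtPrime P) :=
    isIntegrallyClosed_of_isLocalization _ P.primeCompl P.primeCompl_le_nonZeroDivisors
  have hdim : ringKrullDim (Localization.AtPrime P) = 1 := by
    rw [IsLocalization.AtPrime.ringKrullDim_eq_height P (Localization.AtPrime P), hP]; rfl
  have hnf : ¬ IsField (Localization.AtPrime P) := fun h => by
    rw [ringKrullDim_eq_zero_of_isField h] at hdim
    exact zero_ne_one hdim
  haveI : Ring.KrullDimLE 1 (Localization.AtPrime P) := Ring.krullDimLE_iff.2 hdim.le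
  have tf := IsDiscreteValuationRing.TFAE (Localization.AtPrime P) hnf
  apply (tf.out 0 3).2
  refine ⟨inferInstance, maximalIdeal _, ⟨fun h => hnf (isField_iff_maximalIdeal_eq.2 h), inferInstance⟩,
    fun Q hQ => ?_⟩
  haveI := hQ.2
  exact eq_maximalIdeal ((Ring.krullDimLE_one_iff_of_noZeroDivisors.1 ‹_›) Q hQ.1 hQ.2)

end Groth.L27.AbsAbh
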