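import Groth.Prelude.Def_SGA1
import Groth.Agent.L27.AbsAbh.Basic
import Groth.Agent.L05.TameRoot.Main
import Groth.Agent.L13.Purity.InertiaGen

/-! Over Kummer roots of large index a tame cover is unramified along the divisors. -/

set_option autoImplicit false
set_option linter.style.haveILetI false
set_option backward.isDefEq.respectTransparency false
set_option maxSynthPendingDepth 3

universe u

open IsLocalRing TensorProduct EtRam

namespace Groth.L27.AbsAbh

/-- a common multiple of the ramification indices along `f i` -/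
noncomputable def bound {A : Type u} [CommRing A] (B : Type u) [CommRing B] [Algebra A B] {r : ℕ} (f : Fin r → A)
    [∀ i, (Ideal.span {f i}).IsPrime] (i : Fin r) : ℕ :=
  (@Finset.filter _ (fun d : ℕ => (d : ResidueField (Localization.AtPrime (Ideal.span {f i}))) ≠ 0)
    (Classical.decPred _) (Nat.divisors (Module.finrank (FractionRing A) (FractionRing A ⊗[A] B)).factorial)).prod id

theorem bound_pos {A : Type u} [CommRing A] (B : Type u) [CommRing B] [Algebra A B] {r : ℕ} (f : Fin r → A)
    [∀ i, (Ideal.span {f i}).IsPrime] (i : Fin r) : 1 ≤ bound B f i :=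
  Finset.prod_pos fun _ hd => Nat.pos_of_mem_divisors ((@Finset.mem_filter _ _ (Classical.decPred _) _ _).mp hd).1

theorem bound_ne_zero {A : Type u} [CommRing A] (B : Type u) [CommRing B] [Algebra A B] {r : ℕ} (f : Fin r → A)
    [∀ i, (Ideal.span {f i}).IsPrime] (i : Fin r) :
    ((bound B f i : ℕ) : ResidueField (Localization.AtPrime (Ideal.span {f i}))) ≠ 0 := by
  classical
  rw [bound, Nat.cast_prod, Finset.prod_ne_zero_iff]
  exact fun d hd => ((@Finset.mem_filter _ _ (Classical.decPred _) _ _).mp hd).2

/-- the generic fibre of a finite algebra over a basic open is finite -/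
theorem finite_generic {A B K : Type u} [CommRing A] [CommRing B] [Algebra A B] [Field K] [Algebra A K] (F : A)
    (AF : Type u) [CommRing AF] [Algebra A AF] [IsLocalization.Away F AF] [Algebra AF B] [IsScalarTower A AF B]
    [Module.Finite AF B] (hF : algebraMap A K F ≠ 0) : Module.Finite K (K ⊗[A] B) := by
  classical
  obtain ⟨s, hs⟩ := (Module.finite_def.1 ‹Module.Finite AF B› : (⊤ : Submodule AF B).FG)
  refine ⟨s.image (fun b => (1 : K) ⊗ₜ[A] b), ?_⟩
  rw [eq_top_iff]
  rintro z -
  set S := Submodule.span K ((s.image fun b => (1 : K) ⊗ₜ[A] b : Finset _) : Set (K ⊗[A] B))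
  induction z using TensorProduct.induction_on with
  | zero => exact zero_mem _
  | add x y hx hy => exact add_mem hx hy
  | tmul k b =>
    rw [show k ⊗ₜ[A] b = k • ((1 : K) ⊗ₜ[A] b) by rw [smul_tmul', smul_eq_mul, mul_one]]
    refine S.smul_mem k ?_
    have hb : b ∈ Submodule.span AF (s : Set B) := hs ▸ Submodule.mem_top
    induction hb using Submodule.span_induction with
    | mem x hx => exact Submodule.subset_span (Finset.mem_coe.2 (Finset.mem_image_of_mem _ hx))
    | zero => rw [tmul_zero]; exact zero_mem _
    | add x y _ _ hx hy => rw [tmul_add]; exact add_mem hx hy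
    | smul c x _ hx =>
      obtain ⟨⟨a, ⟨_, k, rfl⟩⟩, hc⟩ := IsLocalization.surj (Submonoid.powers F) c
      have h1 : (algebraMap A K (F ^ k)) • ((1 : K) ⊗ₜ[A] (c • x)) = algebraMap A K a • ((1 : K) ⊗ₜ[A] x) := by
        rw [algebraMap_smul, algebraMap_smul, ← tmul_smul, ← tmul_smul, ← algebraMap_smul AF (F ^ k) (c • x),
          smul_smul, mul_comm, hc, algebraMap_smul]
      have h2 : ((1 : K) ⊗ₜ[A] (c • x)) =
          ((algebraMap A K (F ^ k))⁻¹ * algebraMap A K a) • ((1 : K) ⊗ₜ[A] x) := by
        rw [mul_smul, ← h1, smul_smul, inv_mul_cancel₀ (by rw [map_pow]; exact pow_ne_zero _ hF), one_smul]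
      rw [h2]
      exact S.smul_mem _ hx

set_option maxHeartbeats 2000000 in
/-- over a root of `f i` of index divisible by the bound the normalisation is unramified along `f i` -/
theorem isUnramifiedAt_root {A B : Type u} [CommRing A] [IsRegularLocalRing A] [IsDomain A] [CommRing B]
    [Algebra A B] {r : ℕ} (f : Fin r → A) {hm : ∀ i, f i ∈ maximalIdeal A}
    (hf : LinearIndependent (ResidueField A) (fun i => (maximalIdeal A).toCotangent ⟨f i, hm i⟩))
    [∀ i, (Ideal.span {f i}).IsPrime] (F : A) (hF0 : F ≠ 0) (AF : Type u) [CommRing AF] [Algebra A AF]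
    [IsLocalization.Away F AF] [Algebra AF B] [IsScalarTower A AF B] [Algebra.Etale AF B] [Module.Finite AF B]
    (htame : SGA1.IsTameAlong f (algebraMap A B)) {n : Fin r → ℕ} (hn : ∀ j, 1 ≤ n j) (i : Fin r)
    (hdvd : bound B f i ∣ n i) [IsDomain (SGA1.kummerAlg A f n)]
    {K : Type u} [Field K] [Algebra (SGA1.kummerAlg A f n) K] [IsFractionRing (SGA1.kummerAlg A f n) K]
    {M : Type u} [Field M] [Algebra K M] [Algebra (SGA1.kummerAlg A f n) M]
    [IsScalarTower (SGA1.kummerAlg A f n) K M] [FiniteDimensional K M] [Algebra.IsSeparable K M] [Algebra A M]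
    [IsScalarTower A (SGA1.kummerAlg A f n) M]
    (φ : B →ₐ[A] M) (hgen : Algebra.adjoin K (Set.range φ) = ⊤)
    (P : Ideal (integralClosure (SGA1.kummerAlg A f n) M)) [P.IsPrime]
    (hP : P.comap (algebraMap (SGA1.kummerAlg A f n) (integralClosure (SGA1.kummerAlg A f n) M)) =
      Ideal.span {root f n i}) :
    Algebra.IsUnramifiedAt (SGA1.kummerAlg A f n) P := by
  classical
  let R := SGA1.kummerAlg A f n
  let C := integralClosure R M
  haveI : IsRegularLocalRing R := isRegular_kummer A hf hn
  haveI : IsIntegrallyClosed R := isIntegrallyClosed_kummer A hf hn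
  haveI : Module.Finite A R := Groth.Agent.S2921.finite_kummerAlg f n hn
  have hinj : Function.Injective (algebraMap A R) := injective_kummer A hn
  haveI : FaithfulSMul A R := (faithfulSMul_iff_algebraMap_injective _ _).2 hinj
  set t : R := root f n i with ht_def
  have hprime : Prime t := root_prime A hf hn i
  haveI hpt : (Ideal.span {t}).IsPrime := (Ideal.span_singleton_prime hprime.ne_zero).2 hprime
  have hcomap : (Ideal.span {t}).comap (algebraMap A R) = Ideal.span {f i} := comap_span_root A hf hn i
  have hfi : f i ≠ 0 := fun h => notMem_sup A hf i (by rw [h]; exact zero_mem _)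
  have hinjM : Function.Injective (algebraMap R M) := by
    rw [IsScalarTower.algebraMap_eq R K M]
    exact (algebraMap K M).injective.comp (IsFractionRing.injective R K)
  -- the normalisation
  haveI : Module.Finite R C := IsIntegralClosure.finite R K M C
  haveI : Algebra.IsIntegral R C := Algebra.IsIntegral.of_finite R C
  haveI : IsNoetherianRing C := IsNoetherianRing.of_finite R C
  haveI : IsFractionRing C M := integralClosure.isFractionRing_of_finite_extension K M
  haveI : IsIntegrallyClosed C := integralClosure.isIntegrallyClosedOfFiniteExtension K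
  haveI : P.LiesOver (Ideal.span {t}) := ⟨hP.symm⟩
  have hP0 : P ≠ ⊥ := fun h => by
    have h1 : algebraMap R C t ∈ P := by
      rw [← Ideal.mem_comap, hP]; exact Ideal.mem_span_singleton_self t
    rw [h, Ideal.mem_bot] at h1
    exact hprime.ne_zero (hinjM (by rw [map_zero]; exact congrArg Subtype.val h1))
  have hPh : P.height = 1 := by
    refine le_antisymm ((Groth.L13.Purity.height_le_comap (R := R) P).trans ?_) (Order.one_le_iff_ne_zero.2 fun h =>
      hP0 (Ideal.height_eq_zero_iff_eq_bot.1 h))
    rw [hP]
    exact Ideal.height_le_one_of_isPrincipal_of_mem_minimalPrimes (Ideal.span {t}) (Ideal.span {t})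
      (by rw [Ideal.minimalPrimes_eq_subsingleton_self]; rfl)
  let CP := Localization.AtPrime P
  haveI : IsDiscreteValuationRing CP := isDiscreteValuationRing_atPrime P hPh
  have hunit : ∀ y : P.primeCompl, IsUnit (algebraMap C M y) := fun y =>
    isUnit_iff_ne_zero.2 fun h => y.2 (by
      rw [(FaithfulSMul.algebraMap_injective C M) (h.trans (map_zero _).symm)]; exact P.zero_mem)
  letI : Algebra CP M := (IsLocalization.lift hunit : CP →+* M).toAlgebra
  haveI : IsScalarTower C CP M := IsScalarTower.of_algebraMap_eq fun c => (IsLocalization.lift_eq hunit c).symm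
  haveI : IsFractionRing CP M := IsFractionRing.isFractionRing_of_isDomain_of_isLocalization P.primeCompl CP M
  have hval : ∀ x : M, x ∈ (algebraMap CP M).range ∨ x⁻¹ ∈ (algebraMap CP M).range := fun x => by
    rcases ValuationRing.isInteger_or_isInteger CP x with ⟨a, ha⟩ | ⟨a, ha⟩
    · exact Or.inl ⟨a, ha⟩
    · exact Or.inr ⟨a, ha⟩
  let W : ValuationSubring M := ValuationSubring.ofSubring (algebraMap CP M).range hval
  let eW : CP ≃+* W := RingEquiv.ofBijective
    (RingHom.codRestrict (algebraMap CP M) W fun a => ⟨a, rfl⟩)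
    ⟨fun a b h => IsFractionRing.injective CP M (congrArg Subtype.val h), fun x => by
      obtain ⟨a, ha⟩ := x.2
      exact ⟨a, Subtype.ext ha⟩⟩
  have heW : ∀ a : CP, (eW a : M) = algebraMap CP M a := fun a => rfl
  have hWmax : ∀ a : CP, a ∈ maximalIdeal CP → W.valuation (algebraMap CP M a) < 1 := fun a ha => by
    refine (W.valuation_lt_one_iff (eW a)).1 ((mem_maximalIdeal _).2 fun h => ha ?_)
    have := h.map eW.symm
    rwa [RingEquiv.symm_apply_apply] at this
  -- the discrete valuation ring downstairs
  let A0 := Localization.AtPrime (Ideal.span {f i})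
  let K0 := FractionRing A
  haveI : IsDomain A0 := IsLocalization.isDomain_localization (Ideal.span {f i}).primeCompl_le_nonZeroDivisors
  have hmax0 : maximalIdeal A0 = Ideal.span {algebraMap A A0 (f i)} := by
    rw [← Localization.AtPrime.map_eq_maximalIdeal, Ideal.map_span, Set.image_singleton]
  haveI : IsIntegrallyClosed A := Groth.L03.RegularNormal.isIntegrallyClosed A
  haveI hdvr0 : IsDiscreteValuationRing A0 := isDiscreteValuationRing_atPrime (Ideal.span {f i}) (by
    refine le_antisymm (Ideal.height_le_one_of_isPrincipal_of_mem_minimalPrimes (Ideal.span {f i}) (Ideal.span {f i})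
      (by rw [Ideal.minimalPrimes_eq_subsingleton_self]; rfl)) (Order.one_le_iff_ne_zero.2 fun h => hfi ?_)
    exact Ideal.span_singleton_eq_bot.1 (Ideal.height_eq_zero_iff_eq_bot.1 h))
  have hunit0 : ∀ y : (Ideal.span {f i}).primeCompl, IsUnit (algebraMap A K0 y) := fun y =>
    isUnit_iff_ne_zero.2 fun h => y.2 (by
      rw [(IsFractionRing.injective A K0) (h.trans (map_zero _).symm)]; exact Ideal.zero_mem _)
  letI : Algebra A0 K0 := (IsLocalization.lift hunit0 : A0 →+* K0).toAlgebra
  haveI : IsScalarTower A A0 K0 := IsScalarTower.of_algebraMap_eq fun c => (IsLocalization.lift_eq hunit0 c).symm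
  haveI : IsFractionRing A0 K0 :=
    IsFractionRing.isFractionRing_of_isDomain_of_isLocalization (Ideal.span {f i}).primeCompl A0 K0
  -- the generic point of `B`
  let q : Ideal B := RingHom.ker φ
  haveI : q.IsPrime := RingHom.ker_isPrime _
  have hinjAM : Function.Injective (algebraMap A M) := by
    rw [IsScalarTower.algebraMap_eq A R M]; exact hinjM.comp hinj
  have hq : Ideal.comap (algebraMap A B) q = ⊥ := by
    rw [eq_bot_iff]
    intro a ha
    have : φ (algebraMap A B a) = 0 := ha
    rw [φ.commutes] at this
    exact hinjAM (this.trans (map_zero _).symm)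
  let g := SGA1.genericResidueMap (algebraMap A B) (Ideal.span {f i}) q hq
  let L := q.ResidueField
  let ι : L →+* M := Ideal.ResidueField.lift q φ.toRingHom le_rfl (fun b hb => isUnit_iff_ne_zero.2 hb)
  have hι : ∀ b : B, ι (algebraMap B L b) = φ b := fun b => Ideal.ResidueField.lift_algebraMap q _ _ _ b
  have hg : ∀ a : A, g (algebraMap A A0 a) = algebraMap B L (algebraMap A B a) := fun a =>
    IsLocalization.lift_eq _ a
  have hginj : Function.Injective ((algebraMap B L).comp (algebraMap A B)) := fun a b h => hinjAM (by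
    have := congrArg ι h
    rwa [RingHom.comp_apply, RingHom.comp_apply, hι, hι, φ.commutes, φ.commutes] at this)
  letI : Algebra K0 L := (IsFractionRing.lift hginj).toAlgebra
  letI : Algebra A0 L := g.toAlgebra
  haveI : IsScalarTower A0 K0 L := IsScalarTower.of_algebraMap_eq' (IsLocalization.ringHom_ext
    (Ideal.span {f i}).primeCompl (RingHom.ext fun a => by
      show g (algebraMap A A0 a) = IsFractionRing.lift hginj (algebraMap A0 K0 (algebraMap A A0 a))
      rw [hg, ← IsScalarTower.algebraMap_apply A A0 K0, IsFractionRing.lift_algebraMap]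
      rfl))
  letI : Algebra L M := ι.toAlgebra
  letI : Algebra K0 M := (ι.comp (algebraMap K0 L)).toAlgebra
  haveI : IsScalarTower K0 L M := IsScalarTower.of_algebraMap_eq' rfl
  have hK0M : ∀ a : A, algebraMap K0 M (algebraMap A K0 a) = algebraMap A M a := fun a => by
    show ι (IsFractionRing.lift hginj (algebraMap A K0 a)) = _
    rw [IsFractionRing.lift_algebraMap, RingHom.comp_apply, hι, φ.commutes]
  have hinjAK : Function.Injective ((algebraMap R K).comp (algebraMap A R)) :=
    (IsFractionRing.injective R K).comp hinj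
  letI : Algebra K0 K := (IsFractionRing.lift hinjAK).toAlgebra
  haveI : IsScalarTower K0 K M := IsScalarTower.of_algebraMap_eq' (IsLocalization.ringHom_ext (nonZeroDivisors A)
    (RingHom.ext fun a => by
      show algebraMap K0 M (algebraMap A K0 a) = algebraMap K M (IsFractionRing.lift hinjAK (algebraMap A K0 a))
      rw [IsFractionRing.lift_algebraMap, RingHom.comp_apply, ← IsScalarTower.algebraMap_apply R K M,
        ← IsScalarTower.algebraMap_apply A R M, hK0M]))
  letI : Algebra A K := ((algebraMap R K).comp (algebraMap A R)).toAlgebra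
  haveI : IsScalarTower A R K := IsScalarTower.of_algebraMap_eq' rfl
  haveI : IsScalarTower A K0 K := IsScalarTower.of_algebraMap_eq fun a =>
    (IsFractionRing.lift_algebraMap hinjAK a).symm
  haveI : Algebra.IsIntegral A R := Algebra.IsIntegral.of_finite A R
  haveI : Algebra.IsAlgebraic A R := Algebra.IsIntegral.isAlgebraic
  haveI : Module.Finite K0 K := Module.Finite.of_isLocalization A R (nonZeroDivisors A)
  haveI : FiniteDimensional K0 M := Module.Finite.trans K M
  haveI : FiniteDimensional K0 L :=
    FiniteDimensional.of_injective (IsScalarTower.toAlgHom K0 L M).toLinearMap ι.injective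
  -- degree bound
  letI : Algebra A L := ((algebraMap B L).comp (algebraMap A B)).toAlgebra
  haveI : IsScalarTower A K0 L := IsScalarTower.of_algebraMap_eq fun a =>
    (IsFractionRing.lift_algebraMap hginj a).symm
  let Ω : K0 ⊗[A] B →ₐ[K0] L := Algebra.TensorProduct.lift (Algebra.ofId K0 L)
    (AlgHom.mk (algebraMap B L) fun _ => rfl) fun _ _ => Commute.all _ _
  have hΩB : ∀ b, algebraMap B L b ∈ Ω.range := fun b => ⟨1 ⊗ₜ b, by simp [Ω]⟩
  have hΩ : Function.Surjective Ω := fun x => by
    obtain ⟨a, b, hb, rfl⟩ := IsFractionRing.div_surjective (B ⧸ q) x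
    obtain ⟨a, rfl⟩ := Ideal.Quotient.mk_surjective a
    obtain ⟨b, rfl⟩ := Ideal.Quotient.mk_surjective b
    have h1 : algebraMap B L a / algebraMap B L b ∈ Ω.range := by
      rw [div_eq_mul_inv]
      exact mul_mem (hΩB a) (Ω.range.inv_mem_of_algebraic (x := ⟨_, hΩB b⟩)
        (Algebra.IsAlgebraic.isAlgebraic _))
    exact h1
  haveI : Module.Finite K0 (K0 ⊗[A] B) :=
    finite_generic F AF (fun h => hF0 (IsFractionRing.injective A K0 (h.trans (map_zero _).symm)))
  have hdeg : Module.finrank K0 L ≤ Module.finrank K0 (K0 ⊗[A] B) :=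
    LinearMap.finrank_le_finrank_of_surjective hΩ (f := Ω.toLinearMap)
  haveI : Algebra.IsSeparable K0 L := by
    haveI : Algebra.FormallyUnramified A AF := Algebra.FormallyUnramified.of_isLocalization (Submonoid.powers F)
    haveI : Algebra.FormallyUnramified A B := Algebra.FormallyUnramified.comp A AF B
    haveI : Algebra.FormallyUnramified K0 L := Algebra.FormallyUnramified.of_surjective Ω hΩ
    exact Algebra.FormallyUnramified.isSeparable K0 L
  -- domination
  have hcomapA : Ideal.span {f i} = P.comap (algebraMap A C) := by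
    rw [IsScalarTower.algebraMap_eq A R C, ← Ideal.comap_comap, hP, hcomap]
  let j0 : A0 →+* CP := Localization.localRingHom (Ideal.span {f i}) P (algebraMap A C) hcomapA
  have hj0 : ι.comp g = (algebraMap CP M).comp j0 := IsLocalization.ringHom_ext (Ideal.span {f i}).primeCompl
    (RingHom.ext fun a => by
      show ι (g (algebraMap A A0 a)) = algebraMap CP M (Localization.localRingHom _ P _ hcomapA (algebraMap A A0 a))
      rw [hg, hι, φ.commutes, Localization.localRingHom_to_map, ← IsScalarTower.algebraMap_apply C CP M,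
        ← IsScalarTower.algebraMap_apply A C M])
  have hWA : Dominates A0 (ι.comp g) W := by
    refine ⟨fun a => ?_, fun a ha => ?_⟩
    · rw [hj0]; exact ⟨j0 a, rfl⟩
    · rw [hj0]
      exact hWmax _ ((mem_maximalIdeal _).2 fun h => ha (isUnit_of_map_unit j0 a h))
  obtain ⟨hV, hVW⟩ := Groth.L05.TameTower.dominates_comap g ι W hWA
  let V := W.comap ι
  letI : Algebra A0 V := (RingHom.codRestrict g V hV.1).toAlgebra
  haveI : IsScalarTower A0 V L := IsScalarTower.of_algebraMap_eq fun _ => rfl
  haveI : IsLocalHom (algebraMap A0 V) := Groth.L05.TameTower.isLocalHom_codRestrict _ V hV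
  obtain ⟨hdV, -⟩ := Groth.L05.SepResidueSol.isDiscreteValuationRing_of_finite A0 K0 V
  haveI := hdV
  obtain ⟨hsepV, hpV⟩ := htame i q hq V hV
  have hinjV : Function.Injective (algebraMap A0 V) := fun a b h => IsFractionRing.injective A0 K0
    ((algebraMap K0 L).injective (by
      rw [← IsScalarTower.algebraMap_apply, ← IsScalarTower.algebraMap_apply, IsScalarTower.algebraMap_apply A0 V L,
        h, ← IsScalarTower.algebraMap_apply A0 V L]))
  let e := Ideal.ramificationIdx' (maximalIdeal A0) (maximalIdeal V)
  have hediv : e ∣ (Module.finrank K0 (K0 ⊗[A] B)).factorial :=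
    (Groth.L05.TameRoot.idx_dvd_factorial (A := A0) (K := K0) V).trans (Nat.factorial_dvd_factorial hdeg)
  have hedvd : e ∣ n i := by
    refine (Finset.dvd_prod_of_mem id ((@Finset.mem_filter _ _ (Classical.decPred _) _ _).mpr
      ⟨Nat.mem_divisors.mpr ⟨hediv, Nat.factorial_ne_zero _⟩, ?_⟩)).trans hdvd
    rcases CharP.exists' (ResidueField A0) with hz | ⟨p, hpp, hc⟩
    · exact Nat.cast_ne_zero.mpr (ne_zero_of_dvd_ne_zero (Nat.factorial_ne_zero _) hediv)
    · exact fun h0 => hpV p hpp.out hc ((CharP.cast_eq_zero_iff _ p _).mp h0)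
  have htame' : CharZero (ResidueField A0) ∨ ∃ p : ℕ, p.Prime ∧ CharP (ResidueField A0) p ∧
      ¬ p ∣ e ∧ Algebra.IsGeometricallyReduced (ResidueField A0) (ResidueField V) := by
    rcases CharP.exists' (ResidueField A0) with hz | ⟨p, hp, hc⟩
    · exact Or.inl hz
    · refine Or.inr ⟨p, hp.out, hc, hpV p hp.out hc, ?_⟩
      haveI := hsepV
      haveI : Module.Finite (ResidueField A0) (ResidueField V) := Groth.L05.SepResidueSol.finite_residueField A0 K0 V
      rw [Algebra.isGeometricallyReduced_field_iff]
      exact Groth.L03.GeomReduced2.isReduced_tensorProduct_of_isSeparable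
  have hgen' : Algebra.adjoin L (Set.range (algebraMap K M)) = ⊤ := by
    refine eq_top_iff.2 fun x _ => ?_
    have hx : x ∈ Algebra.adjoin K (Set.range φ) := hgen ▸ Algebra.mem_top
    induction hx using Algebra.adjoin_induction with
    | mem y hy =>
      obtain ⟨b, rfl⟩ := hy
      rw [← hι]
      exact Subalgebra.algebraMap_mem _ _
    | algebraMap k => exact Algebra.subset_adjoin ⟨k, rfl⟩
    | add x y _ _ hx hy => exact add_mem (hx trivial) (hy trivial)
    | mul x y _ _ hx hy => exact mul_mem (hx trivial) (hy trivial)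
  -- the discrete valuation ring of the root
  let RP := Localization.AtPrime (Ideal.span {t})
  haveI : IsDiscreteValuationRing RP := isDiscreteValuationRing_atPrime (Ideal.span {t}) (by
    refine le_antisymm (Ideal.height_le_one_of_isPrincipal_of_mem_minimalPrimes (Ideal.span {t}) (Ideal.span {t})
      (by rw [Ideal.minimalPrimes_eq_subsingleton_self]; rfl)) (Order.one_le_iff_ne_zero.2 fun h =>
      hprime.ne_zero (Ideal.span_singleton_eq_bot.1 (Ideal.height_eq_zero_iff_eq_bot.1 h))))
  have hunitR : ∀ y : (Ideal.span {t}).primeCompl, IsUnit (algebraMap R K y) := fun y =>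
    isUnit_iff_ne_zero.2 fun h => y.2 (by
      rw [(IsFractionRing.injective R K) (h.trans (map_zero _).symm)]; exact Ideal.zero_mem _)
  letI : Algebra RP K := (IsLocalization.lift hunitR : RP →+* K).toAlgebra
  haveI : IsScalarTower R RP K := IsScalarTower.of_algebraMap_eq fun c => (IsLocalization.lift_eq hunitR c).symm
  haveI : IsDomain RP := IsLocalization.isDomain_localization (Ideal.span {t}).primeCompl_le_nonZeroDivisors
  haveI : IsFractionRing RP K :=
    IsFractionRing.isFractionRing_of_isDomain_of_isLocalization (Ideal.span {t}).primeCompl RP K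
  let j1 : RP →+* CP := Localization.localRingHom (Ideal.span {t}) P (algebraMap R C) hP.symm
  have hj1 : (algebraMap K M).comp (algebraMap RP K) = (algebraMap CP M).comp j1 :=
    IsLocalization.ringHom_ext (Ideal.span {t}).primeCompl (RingHom.ext fun a => by
      show algebraMap K M (algebraMap RP K (algebraMap R RP a)) =
        algebraMap CP M (Localization.localRingHom _ P _ hP.symm (algebraMap R RP a))
      rw [← IsScalarTower.algebraMap_apply R RP K, ← IsScalarTower.algebraMap_apply R K M,
        Localization.localRingHom_to_map, ← IsScalarTower.algebraMap_apply C CP M,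
        ← IsScalarTower.algebraMap_apply R C M])
  let U := W.comap (algebraMap K M)
  have hRPU : ∀ x : RP, algebraMap RP K x ∈ U := fun x => ⟨j1 x, (RingHom.congr_fun hj1 x).symm⟩
  let u : RP ≃+* U := RingEquiv.ofBijective (RingHom.codRestrict (algebraMap RP K) U hRPU)
    ⟨fun a b h => IsFractionRing.injective RP K (congrArg Subtype.val h), fun x => by
      rcases ValuationRing.isInteger_or_isInteger RP (x : K) with ⟨a, ha⟩ | ⟨a, ha⟩
      · exact ⟨a, Subtype.ext ha⟩
      · by_cases hx : (x : K) = 0
        · exact ⟨0, Subtype.ext (by rw [map_zero]; exact hx.symm)⟩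
        by_cases hu : IsUnit a
        · refine ⟨↑hu.unit⁻¹, Subtype.ext ?_⟩
          have h1 : algebraMap RP K a * algebraMap RP K ↑hu.unit⁻¹ = 1 := by
            rw [← map_mul, IsUnit.mul_val_inv, map_one]
          have h2 := eq_inv_of_mul_eq_one_right h1
          rw [ha, inv_inv] at h2
          exact h2
        · exfalso
          have h1 : W.valuation (algebraMap K M (x : K)⁻¹) < 1 := by
            rw [← ha]
            show W.valuation (((algebraMap K M).comp (algebraMap RP K)) a) < 1
            rw [hj1]
            exact hWmax _ ((mem_maximalIdeal _).2 fun h => hu (isUnit_of_map_unit j1 a h))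
          have h2 : W.valuation (algebraMap K M (x : K)) ≤ 1 := (W.valuation_le_one_iff _).2 x.2
          have h3 : W.valuation (algebraMap K M ((x : K)⁻¹ * x)) < 1 := by
            rw [map_mul, map_mul]
            exact (mul_le_of_le_one_right' h2).trans_lt h1
          rw [inv_mul_cancel₀ hx, map_one, map_one] at h3
          exact lt_irrefl _ h3⟩
  have hA : ∀ a : A0, (algebraMap K0 K) (algebraMap A0 K0 a) ∈ U := fun a => by
    show algebraMap K M (algebraMap K0 K (algebraMap A0 K0 a)) ∈ W
    rw [← IsScalarTower.algebraMap_apply K0 K M]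
    show ι (algebraMap K0 L (algebraMap A0 K0 a)) ∈ W
    rw [← IsScalarTower.algebraMap_apply A0 K0 L]
    exact hWA.1 a
  letI : Algebra A0 U := (RingHom.codRestrict ((algebraMap K0 K).comp (algebraMap A0 K0)) U hA).toAlgebra
  haveI : IsDiscreteValuationRing U := IsDiscreteValuationRing.RingEquivClass.isDiscreteValuationRing (A := RP) u
  let ϖ : U := u (algebraMap R RP t)
  have hUmax : maximalIdeal U = Ideal.span {ϖ} := by
    rw [← IsLocalRing.map_ringEquiv_maximalIdeal u, ← Localization.AtPrime.map_eq_maximalIdeal, Ideal.map_span,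
      Ideal.map_span, Set.image_singleton, Set.image_singleton]
  have hϖn : algebraMap A0 U (algebraMap A A0 (f i)) = ϖ ^ n i := Subtype.ext (by
    show algebraMap K0 K (algebraMap A0 K0 (algebraMap A A0 (f i))) = (algebraMap RP K (algebraMap R RP t)) ^ n i
    rw [← IsScalarTower.algebraMap_apply A A0 K0, ← IsScalarTower.algebraMap_apply A K0 K,
      ← IsScalarTower.algebraMap_apply R RP K, ← map_pow, root_pow]
    rfl)
  have hϖ : Irreducible ϖ := (IsDiscreteValuationRing.irreducible_iff_uniformizer _).2 hUmax
  have hidx : Ideal.ramificationIdx' (maximalIdeal A0) (maximalIdeal U) = n i := by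
    refine Ideal.ramificationIdx'_spec ?_ ?_
    · rw [hmax0, Ideal.map_span, Set.image_singleton, hϖn, hUmax, Ideal.span_singleton_pow]
    · rw [hmax0, Ideal.map_span, Set.image_singleton, hϖn, hUmax, Ideal.span_singleton_pow,
        Ideal.span_singleton_le_span_singleton]
      intro h
      rw [pow_dvd_pow_iff hϖ.ne_zero hϖ.not_isUnit] at h
      omega
  obtain ⟨hwu, hgr⟩ := Groth.L05.Abhyankar.abhyankar A0 V K0 L hinjV htame' K M hgen' W hVW hA
    (by rw [hidx]; exact hedvd)
  -- conclusion
  letI : Algebra U W := (inclOfComap W (algebraMap K M)).toAlgebra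
  haveI : IsScalarTower U W M := IsScalarTower.of_algebraMap_eq fun _ => rfl
  haveI : IsLocalHom (algebraMap U W) := isLocalHom_inclOfComap W (algebraMap K M)
  haveI : Module.Finite (ResidueField U) (ResidueField W) := Groth.L05.SepResidueSol.finite_residueField U K W
  haveI : Algebra.IsGeometricallyReduced (ResidueField U) (ResidueField W) := by
    have e₀ : (inferInstance : Algebra (ResidueField U) (ResidueField W)) =
        (ResidueField.map (inclOfComap W (algebraMap K M))).toAlgebra :=
      Algebra.algebra_ext _ _ fun z => by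
        obtain ⟨z, rfl⟩ := residue_surjective z
        rfl
    convert hgr using 1
  haveI hsU : Algebra.IsSeparable (ResidueField U) (ResidueField W) :=
    Groth.L05.TameRoot.isSeparable_of_geomReduced _ _
  have hcomm : ∀ x : RP, inclOfComap W (algebraMap K M) (u x) = eW (j1 x) := fun x =>
    Subtype.ext (RingHom.congr_fun hj1 x)
  letI : Algebra RP CP := Localization.AtPrime.algebraOfLiesOver (Ideal.span {t}) P
  rw [Algebra.isUnramifiedAt_iff_map_eq R (Ideal.span {t}) P]
  refine ⟨?_, ?_⟩
  · refine Algebra.IsSeparable.of_equiv_equiv (A₁ := ResidueField U) (B₁ := ResidueField W)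
      (ResidueField.mapEquiv u.symm) (ResidueField.mapEquiv eW.symm) ?_
    refine RingHom.ext fun z => ?_
    obtain ⟨y, rfl⟩ := residue_surjective z
    obtain ⟨x, rfl⟩ := u.surjective y
    show algebraMap (Ideal.span {t}).ResidueField P.ResidueField
        (ResidueField.mapEquiv u.symm (residue U (u x))) =
      ResidueField.mapEquiv eW.symm (residue W (inclOfComap W (algebraMap K M) (u x)))
    rw [hcomm]
    simp only [ResidueField.mapEquiv_apply, ResidueField.map_residue, RingHom.coe_coe, RingEquiv.symm_apply_apply]
    rfl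
  · rw [Ideal.map_span, Set.image_singleton]
    have h1 : (maximalIdeal U).map (algebraMap U W) = maximalIdeal W := hwu
    rw [hUmax, Ideal.map_span, Set.image_singleton] at h1
    rw [IsScalarTower.algebraMap_apply R C CP, ← Localization.localRingHom_to_map (Ideal.span {t}) P _ hP.symm]
    have hinclϖ : algebraMap U W ϖ = eW (j1 (algebraMap R RP t)) := hcomm (algebraMap R RP t)
    rw [hinclϖ] at h1
    have h2 := congrArg (Ideal.map (eW.symm : W →+* CP)) h1
    rw [Ideal.map_span, Set.image_singleton, RingHom.coe_coe, RingEquiv.symm_apply_apply] at h2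
    exact h2.trans (IsLocalRing.map_ringEquiv_maximalIdeal eW.symm)

end Groth.L27.AbsAbh
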