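import Groth.Agent.L27.AbsAbh.Etale
import Groth.Agent.L27.AbsAbh.Tame
import Groth.Agent.L27.AbsAbh.Descent
import Groth.Agent.S0564

/-! Exponents prime to the residue characteristic for the absolute Abhyankar lemma. -/

set_option autoImplicit false
set_option linter.style.haveILetI false
set_option backward.isDefEq.respectTransparency false

universe u

open IsLocalRing

namespace Groth.L27.AbsAbh

variable {A B : Type u} [CommRing A] [IsRegularLocalRing A] [IsDomain A] [CommRing B] [Algebra A B] {r : ℕ}
  {f : Fin r → A} {hm : ∀ i, f i ∈ maximalIdeal A}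

theorem eq_span_root_of_mem
    (hf : LinearIndependent (ResidueField A) (fun i => (maximalIdeal A).toCotangent ⟨f i, hm i⟩))
    {n : Fin r → ℕ} (hn : ∀ i, 1 ≤ n i) {𝔭 : Ideal (SGA1.kummerAlg A f n)} [𝔭.IsPrime] (h1 : 𝔭.height = 1)
    (h : algebraMap A (SGA1.kummerAlg A f n) (∏ i, f i) ∈ 𝔭) : ∃ j, 𝔭 = Ideal.span {root f n j} := by
  haveI := isDomain_kummer A hf hn
  rw [map_prod] at h
  obtain ⟨j, -, hj⟩ := (inferInstance : 𝔭.IsPrime).prod_mem_iff.1 h
  rw [← root_pow] at hj
  have hmem := (inferInstance : 𝔭.IsPrime).mem_of_pow_mem _ hj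
  have hpr := root_prime A hf hn j
  haveI := (Ideal.span_singleton_prime hpr.ne_zero).2 hpr
  refine ⟨j, ((eq_or_lt_of_le ((Ideal.span_singleton_le_iff_mem _).2 hmem)).resolve_right fun hlt => ?_).symm⟩
  have h2 := Ideal.height_strict_mono_of_isPrime hlt
  rw [h1, Order.lt_one_iff, Ideal.height_eq_zero_iff_eq_bot, Ideal.span_singleton_eq_bot] at h2
  exact hpr.ne_zero h2

variable (hf : LinearIndependent (ResidueField A) (fun i => (maximalIdeal A).toCotangent ⟨f i, hm i⟩))
  [∀ i, (Ideal.span {f i}).IsPrime] (AF : Type u) [CommRing AF] [Algebra A AF]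
  [IsLocalization.Away (∏ i, f i) AF] [Algebra AF B] [IsScalarTower A AF B] [Algebra.Etale AF B]
  [Module.Finite AF B] (htame : SGA1.IsTameAlong f (algebraMap A B))

include hf in
omit [∀ i, (Ideal.span {f i}).IsPrime] in
theorem prod_ne_zero : (∏ i, f i) ≠ 0 :=
  Finset.prod_ne_zero_iff.2 fun i _ h => notMem_sup A hf i (by rw [h]; exact zero_mem _)

include hf AF htame in
/-- unramifiedness in codimension one reduces to the divisors with deficient exponent -/
theorem good_of_deficient {n : Fin r → ℕ} (hn : ∀ i, 1 ≤ n i) [IsDomain (SGA1.kummerAlg A f n)]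
    (hdef : ∀ (M : Type u) [Field M] [Algebra (FractionRing (SGA1.kummerAlg A f n)) M]
      [Algebra (SGA1.kummerAlg A f n) M] [IsScalarTower (SGA1.kummerAlg A f n) (FractionRing (SGA1.kummerAlg A f n)) M]
      [Algebra A M] [IsScalarTower A (SGA1.kummerAlg A f n) M]
      [FiniteDimensional (FractionRing (SGA1.kummerAlg A f n)) M]
      [Algebra.IsSeparable (FractionRing (SGA1.kummerAlg A f n)) M] (φ : B →ₐ[A] M),
      Algebra.adjoin (FractionRing (SGA1.kummerAlg A f n)) (Set.range φ) = ⊤ →
      ∀ j, ¬ bound B f j ∣ n j → ∀ (P : Ideal (integralClosure (SGA1.kummerAlg A f n) M)) [P.IsPrime],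
        P.comap (algebraMap (SGA1.kummerAlg A f n) (integralClosure (SGA1.kummerAlg A f n) M)) =
          Ideal.span {root f n j} → Algebra.IsUnramifiedAt (SGA1.kummerAlg A f n) P) :
    Good A B (SGA1.kummerAlg A f n) (FractionRing (SGA1.kummerAlg A f n)) := by
  intro M _ _ _ _ _ _ _ _ φ hgen P _ hP1
  haveI := isIntegrallyClosed_kummer A hf hn
  have hF := prod_ne_zero hf
  by_cases hPF : algebraMap A (integralClosure (SGA1.kummerAlg A f n) M) (∏ i, f i) ∈ P
  · rw [IsScalarTower.algebraMap_apply A (SGA1.kummerAlg A f n) (integralClosure (SGA1.kummerAlg A f n) M),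
      ← Ideal.mem_comap] at hPF
    obtain ⟨j, hj⟩ := eq_span_root_of_mem hf hn hP1 hPF
    by_cases hdvd : bound B f j ∣ n j
    · exact isUnramifiedAt_root f hf (∏ i, f i) hF AF htame hn j hdvd φ hgen P hj
    · exact hdef M φ hgen j hdvd P hj
  · exact isUnramifiedAt_of_notMem (∏ i, f i) AF φ hgen
      (fun h => hF (injective_kummer A hn (h.trans (map_zero _).symm))) P hPF

set_option maxHeartbeats 1000000 in
include hf AF htame in
/-- for exponents prime to the residue characteristic the normalisation is unramified in codimension one -/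
theorem exists_good :
    ∃ n : Fin r → ℕ, (∀ i, 1 ≤ n i) ∧ (∀ i, IsUnit ((n i : ℕ) : ResidueField A)) ∧
      ∀ [IsDomain (SGA1.kummerAlg A f n)], Good A B (SGA1.kummerAlg A f n) (FractionRing (SGA1.kummerAlg A f n)) := by
  classical
  rcases CharP.exists' (ResidueField A) with hz | ⟨p, hp, hc⟩
  · refine ⟨bound B f, bound_pos B f, fun i => isUnit_iff_ne_zero.2 (Nat.cast_ne_zero.2 (by
      have := bound_pos B f i; omega)), fun {_} => ?_⟩
    exact good_of_deficient hf AF htame (bound_pos B f) fun M _ _ _ _ _ _ _ _ φ hgen j hj => absurd dvd_rfl hj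
  haveI := hc
  have hpm : (p : A) ∈ maximalIdeal A := by
    rw [← residue_eq_zero_iff, map_natCast, CharP.cast_eq_zero]
  have hex : ∀ i, ∃ a m : ℕ, ¬ p ∣ m ∧ bound B f i = p ^ a * m := fun i =>
    Nat.exists_eq_pow_mul_and_not_dvd (by have := bound_pos B f i; omega) p hp.out.ne_one
  choose a m hpm' hbm using hex
  have ha : ∀ i, (p : A) ∈ Ideal.span {f i} → a i = 0 := fun i hi => by
    by_contra h0
    have h := bound_ne_zero B f i
    rw [hbm, Nat.cast_mul, Nat.cast_pow] at h
    refine h (mul_eq_zero_of_left ?_ _)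
    rw [← map_natCast (algebraMap A (ResidueField (Localization.AtPrime (Ideal.span {f i})))) p]
    have hz : algebraMap A (ResidueField (Localization.AtPrime (Ideal.span {f i}))) (p : A) = 0 := by
      rw [IsScalarTower.algebraMap_apply A (Localization.AtPrime (Ideal.span {f i})) _,
        ResidueField.algebraMap_eq, residue_eq_zero_iff, IsLocalization.AtPrime.to_map_mem_maximal_iff _ (Ideal.span {f i})]
      exact hi
    rw [hz, zero_pow h0]
  have hm1 : ∀ i, 1 ≤ m i := fun i => Nat.pos_of_ne_zero fun h => hpm' i (h ▸ dvd_zero p)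
  suffices h : ∀ (d : ℕ) (b : Fin r → ℕ), ∑ i, (a i - b i) = d → (∀ i, b i ≤ a i) →
      ∀ (n : Fin r → ℕ), (∀ i, n i = p ^ b i * m i) → ∀ [IsDomain (SGA1.kummerAlg A f n)],
        Good A B (SGA1.kummerAlg A f n) (FractionRing (SGA1.kummerAlg A f n)) by
    refine ⟨m, hm1, fun i => isUnit_iff_ne_zero.2 fun h0 => hpm' i ((CharP.cast_eq_zero_iff _ p _).1 h0), fun {_} => ?_⟩
    exact h _ (fun _ => 0) rfl (fun i => Nat.zero_le _) m fun i => by rw [pow_zero, one_mul]
  intro d
  induction d using Nat.strong_induction_on with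
  | _ d ih =>
  intro b hd hba n hn' hdom
  haveI := hdom
  have hn : ∀ i, 1 ≤ n i := fun i => by
    rw [hn' i]; exact Nat.one_le_iff_ne_zero.2 (mul_ne_zero (pow_ne_zero _ hp.out.ne_zero) (by have := hm1 i; omega))
  refine good_of_deficient hf AF htame hn fun M _ _ _ _ _ _ _ _ φ hgen j hj P _ hP => ?_
  haveI := isRegular_kummer A hf hn
  have hbj : b j < a j := lt_of_le_of_ne (hba j) fun he => hj (by rw [hn' j, he, hbm j])
  have hpj : (p : A) ∉ Ideal.span {f j} := fun h => by have := ha j h; omega
  let n1 : Fin r → ℕ := Function.update n j (p * n j)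
  let b1 : Fin r → ℕ := Function.update b j (b j + 1)
  have hn1' : ∀ i, n1 i = p ^ b1 i * m i := fun i => by
    rcases eq_or_ne i j with rfl | hne
    · simp only [n1, b1, Function.update_self, hn' i, pow_succ]
      ring
    · simp only [n1, b1, Function.update_of_ne hne, hn' i]
  have hn1 : ∀ i, 1 ≤ n1 i := fun i => by
    rw [hn1' i]; exact Nat.one_le_iff_ne_zero.2 (mul_ne_zero (pow_ne_zero _ hp.out.ne_zero) (by have := hm1 i; omega))
  haveI := isDomain_kummer A hf hn1
  haveI := isRegular_kummer A hf hn1
  have hgood1 : Good A B (SGA1.kummerAlg A f n1) (FractionRing (SGA1.kummerAlg A f n1)) := by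
    refine ih (∑ i, (a i - b1 i)) ?_ b1 rfl (fun i => ?_) n1 hn1'
    · rw [← hd]
      refine Finset.sum_lt_sum (fun i _ => ?_) ⟨j, Finset.mem_univ j, ?_⟩
      · rcases eq_or_ne i j with rfl | hne
        · simp only [b1, Function.update_self]; omega
        · simp only [b1, Function.update_of_ne hne]; omega
      · simp only [b1, Function.update_self]; omega
    · rcases eq_or_ne i j with rfl | hne
      · simp only [b1, Function.update_self]; omega
      · simp only [b1, Function.update_of_ne hne]; exact hba i
  let R := SGA1.kummerAlg A f n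
  let R1 := SGA1.kummerAlg A f n1
  let x : Fin r → R1 := fun i => if i = j then root f n1 i ^ p else root f n1 i
  have hx : ∀ i, x i ^ n i = algebraMap A R1 (f i) := fun i => by
    rw [← root_pow f n1 i]
    rcases eq_or_ne i j with rfl | hne
    · simp only [x, if_pos, n1, Function.update_self, ← pow_mul]
    · simp only [x, if_neg hne, n1, Function.update_of_ne hne]
  let ι : R →+* R1 := liftHom (algebraMap A R1) x hx
  letI : Algebra R R1 := ι.toAlgebra
  haveI : IsScalarTower A R R1 := IsScalarTower.of_algebraMap_eq (R := A) (S := R) (A := R1) fun a =>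
    (liftHom_algebraMap _ _ _ a).symm
  haveI : Module.Finite A R1 := Groth.Agent.S2921.finite_kummerAlg f n1 hn1
  haveI : Module.Finite A R := Groth.Agent.S2921.finite_kummerAlg f n hn
  haveI : Module.Finite R R1 := Module.Finite.of_restrictScalars_finite A R R1
  haveI : Algebra.IsIntegral A R := Algebra.IsIntegral.of_finite A R
  have hinj : Function.Injective (algebraMap R R1) := by
    rw [RingHom.injective_iff_ker_eq_bot]
    haveI : (RingHom.ker (algebraMap R R1)).IsPrime := RingHom.ker_isPrime _
    refine Ideal.eq_bot_of_comap_eq_bot (R := A) (eq_bot_iff.2 fun a ha => ?_)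
    have h0 : algebraMap R R1 (algebraMap A R a) = 0 := ha
    rw [← IsScalarTower.algebraMap_apply] at h0
    exact injective_kummer A hn1 (h0.trans (map_zero _).symm)
  have hιroot : ∀ i, algebraMap R R1 (root f n i) = x i := fun i => liftHom_root _ _ _ i
  have hτ : root f n1 j ^ p = algebraMap R R1 (root f n j) := by
    rw [hιroot]; simp only [x, if_pos]
  have hgenR1 : Algebra.adjoin R {root f n1 j} = ⊤ := by
    refine eq_top_iff.2 fun z _ => ?_
    induction z using kummer_induction with
    | hC a =>
      rw [IsScalarTower.algebraMap_apply A R R1]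
      exact Subalgebra.algebraMap_mem _ _
    | hadd x y hx hy => exact add_mem (hx trivial) (hy trivial)
    | hmul z i hz =>
      refine mul_mem (hz trivial) ?_
      rcases eq_or_ne i j with rfl | hne
      · exact Algebra.self_mem_adjoin_singleton _ _
      · rw [show root f n1 i = algebraMap R R1 (root f n i) by rw [hιroot]; simp only [x, if_neg hne]]
        exact Subalgebra.algebraMap_mem _ _
  refine isUnramifiedAt_descent (R1 := R1) hinj (root_mem A hf hn j) (root_notMem_sq A hf hn j) hp.out ?_ ?_ hτ hgenR1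
    (K := FractionRing R) ?_ ?_ P hP
  · rw [← map_natCast (algebraMap A R), mem_maximalIdeal]
    haveI : IsLocalHom (algebraMap A R) :=
      RingHom.IsIntegral.isLocalHom (Algebra.IsIntegral.isIntegral (R := A)) (injective_kummer A hn)
    exact fun hu => hpm (isUnit_of_map_unit (algebraMap A R) _ hu)
  · intro h
    rw [← map_natCast (algebraMap A R), ← Ideal.mem_comap, comap_span_root A hf hn j] at h
    exact hpj h
  · intro P' _ h1 hp'
    by_cases hPF : algebraMap A (integralClosure R M) (∏ i, f i) ∈ P'
    · rw [IsScalarTower.algebraMap_apply A R (integralClosure R M), ← Ideal.mem_comap] at hPF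
      obtain ⟨i, hi⟩ := eq_span_root_of_mem hf hn h1 hPF
      rw [hi, ← map_natCast (algebraMap A R), ← Ideal.mem_comap, comap_span_root A hf hn i] at hp'
      have hai := ha i hp'
      have hdvd : bound B f i ∣ n i := by
        have := hba i
        rw [hn' i, hbm i, hai, show b i = 0 by omega]
      exact isUnramifiedAt_root f hf (∏ i, f i) (prod_ne_zero hf) AF htame hn i hdvd φ hgen P' hi
    · haveI := isIntegrallyClosed_kummer A hf hn
      exact isUnramifiedAt_of_notMem (∏ i, f i) AF φ hgen
        (fun h => prod_ne_zero hf (injective_kummer A hn (h.trans (map_zero _).symm))) P' hPF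
  · intro M1 _ _ _ _ _ _ _ _ σ hσ
    letI : Algebra A M1 := ((algebraMap R M1).comp (algebraMap A R)).toAlgebra
    haveI : IsScalarTower A R M1 := IsScalarTower.of_algebraMap_eq (R := A) (S := R) (A := M1) fun _ => rfl
    haveI : IsScalarTower A R1 M1 := IsScalarTower.of_algebraMap_eq (R := A) (S := R1) (A := M1) fun a => by
      rw [IsScalarTower.algebraMap_apply A R M1, IsScalarTower.algebraMap_apply A R R1,
        ← IsScalarTower.algebraMap_apply R R1 M1]
    let φ1 : B →ₐ[A] M1 := (σ.restrictScalars A).comp φ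
    have hgen1 : Algebra.adjoin (FractionRing R1) (Set.range φ1) = ⊤ := by
      refine eq_top_iff.2 (hσ ▸ Algebra.adjoin_le ?_)
      rintro _ ⟨z, rfl⟩
      have hz : z ∈ Algebra.adjoin (FractionRing R) (Set.range φ) := hgen ▸ Algebra.mem_top
      induction hz using Algebra.adjoin_induction with
      | mem y hy =>
        obtain ⟨c, rfl⟩ := hy
        exact Algebra.subset_adjoin ⟨c, rfl⟩
      | algebraMap k =>
        obtain ⟨u, v, -, rfl⟩ := IsFractionRing.div_surjective R k
        rw [map_div₀, map_div₀, ← IsScalarTower.algebraMap_apply, ← IsScalarTower.algebraMap_apply, σ.commutes,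
          σ.commutes, IsScalarTower.algebraMap_apply R R1 M1, IsScalarTower.algebraMap_apply R R1 M1 v,
          IsScalarTower.algebraMap_apply R1 (FractionRing R1) M1,
          IsScalarTower.algebraMap_apply R1 (FractionRing R1) M1 (algebraMap R R1 v), ← map_div₀]
        exact Subalgebra.algebraMap_mem _ _
      | add x y _ _ hx hy => rw [map_add]; exact add_mem hx hy
      | mul x y _ _ hx hy => rw [map_mul]; exact mul_mem hx hy
    exact (Groth.L13.Purity.etale_of_unramifiedCodimOne (fun q _ => Groth.Agent.S0564.result R1 q)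
      (FractionRing R1) M1 (integralClosure R1 M1) (hgood1 M1 φ1 hgen1)).1

end Groth.L27.AbsAbh
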