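import Groth.Agent.L27.AbsAbh.CoverTools
import Groth.Agent.L10.RegularUFD
import Mathlib.RingTheory.Unramified.Locus

/-! A regular tame cover of a strictly henselian regular local ring is a Kummer covering. -/

set_option autoImplicit false
set_option linter.style.haveILetI false
set_option backward.isDefEq.respectTransparency false
set_option maxSynthPendingDepth 3

universe u

open IsLocalRing TensorProduct

namespace Groth.L27.AbsAbh

attribute [local instance] Algebra.TensorProduct.rightAlgebra in
theorem isUnramifiedAt_of_etale_away {A B : Type u} [CommRing A] [CommRing B] [Algebra A B] (F : A)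
    [Algebra.Etale (Localization.Away F) (Localization.Away F ⊗[A] B)] (P : Ideal B) [P.IsPrime]
    (hP : algebraMap A B F ∉ P) : Algebra.IsUnramifiedAt A P := by
  haveI : Algebra.FormallyUnramified A (Localization.Away F ⊗[A] B) :=
    Algebra.FormallyUnramified.comp A (Localization.Away F) _
  haveI : IsLocalization.Away (algebraMap A B F) (Localization.Away F ⊗[A] B) := by
    have h1 : Submonoid.powers (algebraMap A B F) = Algebra.algebraMapSubmonoid B (Submonoid.powers F) := by
      simp [Algebra.algebraMapSubmonoid, Submonoid.map_powers]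
    show IsLocalization (Submonoid.powers (algebraMap A B F)) _
    rw [h1]
    infer_instance
  haveI : Algebra.FormallyUnramified A (Localization.Away (algebraMap A B F)) :=
    Algebra.FormallyUnramified.of_equiv
      ((IsLocalization.algEquiv (Submonoid.powers (algebraMap A B F)) (Localization.Away F ⊗[A] B)
        (Localization.Away (algebraMap A B F))).restrictScalars A)
  exact (Algebra.basicOpen_subset_unramifiedLocus_iff.2 inferInstance) (show ⟨P, inferInstance⟩ ∈ _ from hP)

/-- tameness passes to the localized algebra -/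
theorem isTameAlong_away {A B : Type u} [CommRing A] [CommRing B] [Algebra A B] {r : ℕ} (f : Fin r → A)
    [∀ i, (Ideal.span {f i}).IsPrime] (F : A) (h : SGA1.IsTameAlong f (algebraMap A B)) :
    SGA1.IsTameAlong f (algebraMap A (Localization.Away F ⊗[A] B)) := by
  intro i q' _ hq'
  let B' := Localization.Away F ⊗[A] B
  let inc : B →ₐ[A] B' := Algebra.TensorProduct.includeRight
  let q := q'.comap inc.toRingHom
  haveI : q.IsPrime := Ideal.comap_isPrime _ _
  have hinc : inc.toRingHom.comp (algebraMap A B) = algebraMap A B' := inc.comp_algebraMap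
  have hq : Ideal.comap (algebraMap A B) q = ⊥ := by
    show ((q'.comap inc.toRingHom).comap (algebraMap A B)) = ⊥
    rw [Ideal.comap_comap, hinc, hq']
  let ρ : q.ResidueField →+* q'.ResidueField := Ideal.ResidueField.map q q' inc.toRingHom rfl
  have hρ : ∀ b, ρ (algebraMap B _ b) = algebraMap B' _ (inc b) := fun b =>
    Ideal.ResidueField.map_algebraMap q q' inc.toRingHom rfl b
  have hA : ∀ a : A, algebraMap B' q'.ResidueField (algebraMap A B' a) ∈ ρ.fieldRange := fun a =>
    ⟨algebraMap B _ (algebraMap A B a), by rw [hρ, AlgHom.commutes]⟩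
  have hy : ∀ y : B', algebraMap B' q'.ResidueField y ∈ ρ.fieldRange := by
    intro y
    induction y using TensorProduct.induction_on with
    | zero => rw [map_zero]; exact zero_mem _
    | add x y hx hy => rw [map_add]; exact add_mem hx hy
    | tmul k b =>
      rw [show k ⊗ₜ[A] b = (k ⊗ₜ[A] (1 : B)) * inc b by
        simp only [inc]; rw [Algebra.TensorProduct.includeRight_apply, Algebra.TensorProduct.tmul_mul_tmul, mul_one, one_mul], map_mul]
      refine mul_mem ?_ ⟨_, hρ b⟩
      obtain ⟨⟨a, s⟩, hs⟩ := IsLocalization.surj (Submonoid.powers F) k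
      have h1 : (k ⊗ₜ[A] (1 : B)) * algebraMap A B' s = algebraMap A B' a := by
        rw [Algebra.TensorProduct.algebraMap_apply, Algebra.TensorProduct.algebraMap_apply,
          Algebra.TensorProduct.tmul_mul_tmul, one_mul, hs]
      have h2 := congrArg (algebraMap B' q'.ResidueField) h1
      rw [map_mul] at h2
      have hu : IsUnit (algebraMap B' q'.ResidueField (algebraMap A B' (s : A))) := by
        refine IsUnit.map _ ?_
        rw [Algebra.TensorProduct.algebraMap_apply]
        exact (IsLocalization.map_units (Localization.Away F) s).map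
          (Algebra.TensorProduct.includeLeftRingHom : Localization.Away F →+* B')
      rw [eq_div_of_mul_eq hu.ne_zero h2]
      exact div_mem (hA a) (hA s)
  have hsur : Function.Surjective ρ := fun z => by
    obtain ⟨a, b, -, rfl⟩ := IsFractionRing.div_surjective (B' ⧸ q') z
    obtain ⟨a, rfl⟩ := Ideal.Quotient.mk_surjective a
    obtain ⟨b, rfl⟩ := Ideal.Quotient.mk_surjective b
    exact RingHom.mem_fieldRange.1 (div_mem (hy a) (hy b))
  let e := RingEquiv.ofBijective ρ ⟨ρ.injective, hsur⟩
  refine isTamelyRamified_congr e.symm _ ?_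
  have heq : e.symm.toRingHom.comp (SGA1.genericResidueMap (algebraMap A B') (Ideal.span {f i}) q' hq') =
      SGA1.genericResidueMap (algebraMap A B) (Ideal.span {f i}) q hq :=
    IsLocalization.ringHom_ext (Ideal.span {f i}).primeCompl (RingHom.ext fun a => by
      apply e.injective
      simp only [RingHom.comp_apply, RingEquiv.toRingHom_eq_coe, RingHom.coe_coe, RingEquiv.apply_symm_apply]
      unfold SGA1.genericResidueMap
      rw [IsLocalization.lift_eq, IsLocalization.lift_eq]
      show algebraMap B' _ (algebraMap A B' a) = ρ (algebraMap B _ (algebraMap A B a))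
      rw [hρ, AlgHom.commutes])
  rw [heq]
  exact h i q hq

set_option maxHeartbeats 1000000 in
/-- a finite free tame cover is dominated by a Kummer algebra -/
theorem exists_kummer_dominating (A : Type u) [CommRing A] [IsRegularLocalRing A] [IsDomain A] [HenselianLocalRing A]
    [IsSepClosed (ResidueField A)] {r : ℕ} {f : Fin r → A} {hm : ∀ i, f i ∈ maximalIdeal A}
    (hf : LinearIndependent (ResidueField A) (fun i => (maximalIdeal A).toCotangent ⟨f i, hm i⟩))
    [∀ i, (Ideal.span {f i}).IsPrime]
    (B : Type u) [CommRing B] [IsDomain B] [Algebra A B] [Module.Finite A B] [Module.Free A B]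
    [Algebra.Etale (Localization.Away (∏ i, f i)) (Localization.Away (∏ i, f i) ⊗[A] B)]
    (htame : SGA1.IsTameAlong f (algebraMap A B)) :
    ∃ n : Fin r → ℕ, (∀ i, 1 ≤ n i) ∧ (∀ i, IsUnit ((n i : ℕ) : ResidueField A)) ∧
      ∃ ι : B →ₐ[A] SGA1.kummerAlg A f n, Function.Injective ι := by
  classical
  let AF := Localization.Away (∏ i, f i)
  let B' := AF ⊗[A] B
  obtain ⟨n, hn, hnu, hgood⟩ := exists_good (B := B') hf AF (isTameAlong_away f _ htame)
  refine ⟨n, hn, hnu, ?_⟩
  let R := SGA1.kummerAlg A f n
  haveI : IsRegularLocalRing R := isRegular_kummer A hf hn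
  haveI : IsDomain R := isDomain_kummer A hf hn
  have hinjR : Function.Injective (algebraMap A R) := injective_kummer A hn
  let K := FractionRing R
  let Ω := AlgebraicClosure K
  have hinjRΩ : Function.Injective (algebraMap R Ω) := by
    rw [IsScalarTower.algebraMap_eq R K Ω]
    exact (algebraMap K Ω).injective.comp (IsFractionRing.injective R K)
  haveI : IsScalarTower A R Ω := IsScalarTower.of_algebraMap_eq (R := A) (S := R) (A := Ω) fun a => by
    rw [IsScalarTower.algebraMap_apply A K Ω, IsScalarTower.algebraMap_apply A R K,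
      ← IsScalarTower.algebraMap_apply R K Ω]
  have hinjA : Function.Injective (algebraMap A Ω) := by
    rw [IsScalarTower.algebraMap_eq A R Ω]; exact hinjRΩ.comp hinjR
  haveI : FaithfulSMul A Ω := (faithfulSMul_iff_algebraMap_injective A Ω).2 hinjA
  haveI : Algebra.IsIntegral A B := Algebra.IsIntegral.of_finite A B
  haveI : Algebra.IsAlgebraic A B := Algebra.IsIntegral.isAlgebraic
  let φB : B →ₐ[A] Ω := IsAlgClosed.lift
  have hφB : Function.Injective φB := by
    refine (RingHom.injective_iff_ker_eq_bot φB.toRingHom).2 ?_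
    haveI : (RingHom.ker φB.toRingHom).IsPrime := RingHom.ker_isPrime _
    refine Ideal.eq_bot_of_comap_eq_bot (R := A) (eq_bot_iff.2 fun a ha => ?_)
    have h0 : φB (algebraMap A B a) = 0 := ha
    rw [φB.commutes] at h0
    exact hinjA (h0.trans (map_zero _).symm)
  let Θ : K ⊗[A] B →ₐ[K] Ω := Algebra.TensorProduct.lift (Algebra.ofId K Ω) φB fun _ _ => Commute.all _ _
  haveI : Module.Finite K Θ.range :=
    Module.Finite.of_surjective Θ.rangeRestrict.toLinearMap Θ.rangeRestrict_surjective
  let M : IntermediateField K Ω := Θ.range.toIntermediateField fun x hx =>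
    Θ.range.inv_mem_of_algebraic (x := ⟨x, hx⟩) (Algebra.IsAlgebraic.isAlgebraic _)
  haveI : FiniteDimensional K M := ‹Module.Finite K Θ.range›
  haveI : IsScalarTower A R M := IsScalarTower.of_algebraMap_eq (R := A) (S := R) (A := M) fun a =>
    Subtype.ext (IsScalarTower.algebraMap_apply A R Ω a)
  have hφBM : ∀ b, φB b ∈ M := fun b => ⟨1 ⊗ₜ b, by simp [Θ]⟩
  let φM : B →ₐ[A] M := AlgHom.mk (RingHom.codRestrict φB.toRingHom M.toSubalgebra.toSubsemiring hφBM) fun a =>
    Subtype.ext (φB.commutes a)
  have hFM : ∀ y : Submonoid.powers (∏ i, f i), IsUnit (algebraMap A M y) := by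
    rintro ⟨_, k, rfl⟩
    refine isUnit_iff_ne_zero.2 fun h => ?_
    have h1 : algebraMap A Ω ((∏ i, f i) ^ k) = 0 := congrArg Subtype.val h
    exact pow_ne_zero k (prod_ne_zero hf) (hinjA (h1.trans (map_zero _).symm))
  let φ' : B' →ₐ[A] M := Algebra.TensorProduct.lift
    (IsLocalization.liftAlgHom (f := Algebra.ofId A M) hFM : AF →ₐ[A] M) φM fun _ _ => Commute.all _ _
  have hφ' : ∀ b, φ' (1 ⊗ₜ b) = φM b := fun b =>
    (Algebra.TensorProduct.lift_tmul _ _ _ _ _).trans (by rw [map_one, one_mul])
  have hgenM : Algebra.adjoin K (Set.range φ') = ⊤ := by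
    refine eq_top_iff.2 fun x _ => ?_
    obtain ⟨z, hz⟩ := x.2
    have hΘ : ∀ z, ∃ y ∈ Algebra.adjoin K (Set.range φ'), (y : Ω) = Θ z := by
      intro z
      induction z using TensorProduct.induction_on with
      | zero => exact ⟨0, zero_mem _, by simp⟩
      | add a b ha hb =>
        obtain ⟨y, hy, hy'⟩ := ha
        obtain ⟨y', hy₂, hy₂'⟩ := hb
        exact ⟨y + y', add_mem hy hy₂, by rw [map_add, ← hy', ← hy₂']; rfl⟩
      | tmul k b =>
        refine ⟨algebraMap K M k * φ' (1 ⊗ₜ b), mul_mem (Subalgebra.algebraMap_mem _ _)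
          (Algebra.subset_adjoin (Set.mem_range_self _)), ?_⟩
        rw [hφ']
        simp only [Θ, Algebra.TensorProduct.lift_tmul]
        rfl
    obtain ⟨y, hy, hy'⟩ := hΘ z
    rwa [show x = y from Subtype.ext (hz.symm.trans hy'.symm)]
  haveI : Algebra.IsSeparable K M := by
    haveI : Algebra.FormallyUnramified A AF :=
      Algebra.FormallyUnramified.of_isLocalization (Submonoid.powers (∏ i, f i))
    haveI : Algebra.FormallyUnramified A B' := Algebra.FormallyUnramified.comp A AF B'
    let Ψ : K ⊗[A] B' →ₐ[K] M := Algebra.TensorProduct.lift (Algebra.ofId K M) φ' fun _ _ => Commute.all _ _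
    have hΨ : Function.Surjective Ψ := by
      intro x
      have hx : x ∈ Ψ.range := by
        refine (hgenM ▸ Algebra.adjoin_le ?_ : (⊤ : Subalgebra K M) ≤ Ψ.range) Algebra.mem_top
        rintro _ ⟨y, rfl⟩
        exact ⟨1 ⊗ₜ y, by simp [Ψ]⟩
      exact hx
    haveI : Algebra.FormallyUnramified K M := Algebra.FormallyUnramified.of_surjective Ψ hΨ
    exact Algebra.FormallyUnramified.isSeparable K M
  let C := integralClosure R M
  haveI : IsIntegrallyClosed R := isIntegrallyClosed_kummer A hf hn
  obtain ⟨hCet, hCfin⟩ := Groth.L13.Purity.etale_of_unramifiedCodimOne (fun q _ => Groth.Agent.S0564.result R q)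
    K M C (hgood M φ' hgenM)
  haveI := hCet
  haveI := hCfin
  have hsur := surjective_of_unramified_kummer A hf hn C
  have hex : ∀ b : B, ∃ x : R, algebraMap R Ω x = φB b := fun b => by
    have hint : IsIntegral R (φM b) := ((IsIntegral.of_finite A b).map φM).tower_top
    obtain ⟨x, hx⟩ := hsur ⟨φM b, hint⟩
    exact ⟨x, congrArg (fun z : C => ((z : M) : Ω)) hx⟩
  choose g hg using hex
  let ι : B →ₐ[A] R :=
    { toFun := g
      map_one' := hinjRΩ (by rw [hg, map_one, map_one])
      map_mul' := fun x y => hinjRΩ (by rw [hg, map_mul, map_mul, hg, hg])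
      map_zero' := hinjRΩ (by rw [hg, map_zero, map_zero])
      map_add' := fun x y => hinjRΩ (by rw [hg, map_add, map_add, hg, hg])
      commutes' := fun a => hinjRΩ (by rw [hg, φB.commutes, ← IsScalarTower.algebraMap_apply]) }
  exact ⟨ι, fun x y h => hφB (by
    have h' := congrArg (algebraMap R Ω) h
    rwa [show ι x = g x from rfl, show ι y = g y from rfl, hg, hg] at h')⟩

set_option maxHeartbeats 2000000 in
/-- a regular finite free tame cover is a Kummer algebra -/
theorem kummer_structure (A : Type u) [CommRing A] [IsRegularLocalRing A] [IsDomain A] [HenselianLocalRing A]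
    [IsSepClosed (ResidueField A)] {r : ℕ} {f : Fin r → A} {hm : ∀ i, f i ∈ maximalIdeal A}
    (hf : LinearIndependent (ResidueField A) (fun i => (maximalIdeal A).toCotangent ⟨f i, hm i⟩))
    [∀ i, (Ideal.span {f i}).IsPrime]
    (B : Type u) [CommRing B] [IsDomain B] [Algebra A B] [Module.Finite A B] [Module.Free A B]
    (hreg : ∀ (q : Ideal B) [q.IsPrime], IsRegularLocalRing (Localization.AtPrime q))
    [Algebra.Etale (Localization.Away (∏ i, f i)) (Localization.Away (∏ i, f i) ⊗[A] B)]
    (htame : SGA1.IsTameAlong f (algebraMap A B)) :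
    ∃ n : Fin r → ℕ, (∀ i, 1 ≤ n i) ∧ (∀ i, IsUnit ((n i : ℕ) : ResidueField A)) ∧
      Nonempty (B ≃ₐ[A] SGA1.kummerAlg A f n) := by
  classical
  obtain ⟨n, hn, hnu, ι, hι⟩ := exists_kummer_dominating A hf B htame
  let R := SGA1.kummerAlg A f n
  haveI : IsRegularLocalRing R := isRegular_kummer A hf hn
  haveI : IsDomain R := isDomain_kummer A hf hn
  haveI : Module.Finite A R := Groth.Agent.S2921.finite_kummerAlg f n hn
  letI : Algebra B R := ι.toRingHom.toAlgebra
  haveI : IsScalarTower A B R := IsScalarTower.of_algebraMap_eq (R := A) (S := B) (A := R) fun a =>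
    (ι.commutes a).symm
  haveI : Module.Finite B R := Module.Finite.of_restrictScalars_finite A B R
  haveI : Algebra.IsIntegral B R := Algebra.IsIntegral.of_finite B R
  haveI : IsLocalRing B := Groth.L05.isLocalRing_of_finite_domain (A := A) B
  haveI : HenselianLocalRing B := Groth.L05.henselianLocalRing_of_finite (A := A) B
  haveI : IsLocalHom (algebraMap B R) := RingHom.IsIntegral.isLocalHom (Algebra.IsIntegral.isIntegral (R := B)) hι
  have hinjAB : Function.Injective (algebraMap A B) := fun x y h => injective_kummer A hn (f := f) (n := n) (by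
    rw [← ι.commutes, ← ι.commutes, h])
  haveI : IsLocalHom (algebraMap A B) :=
    RingHom.IsIntegral.isLocalHom (Algebra.IsIntegral.isIntegral (R := A)) hinjAB
  have hresB : ∀ b : B, ∃ a : A, b - algebraMap A B a ∈ maximalIdeal B := fun b => by
    obtain ⟨a, ha⟩ := exists_sub_mem_kummer A hf hn (ι b)
    refine ⟨a, (mem_maximalIdeal _).2 fun hu => ?_⟩
    have h2 := hu.map ι
    rw [map_sub, ι.commutes] at h2
    exact (mem_maximalIdeal _).1 ha h2
  haveI : IsSepClosed (ResidueField B) := by
    have hsur : Function.Surjective (ResidueField.map (algebraMap A B)) := fun z => by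
      obtain ⟨b, rfl⟩ := residue_surjective z
      obtain ⟨a, ha⟩ := hresB b
      exact ⟨residue A a, (Ideal.Quotient.eq.2 ha).symm⟩
    let e := RingEquiv.ofBijective _ ⟨RingHom.injective _, hsur⟩
    refine IsSepClosed.of_exists_root _ fun P hP hirr hPsep => ?_
    obtain ⟨x, hx⟩ := IsSepClosed.exists_root (P.map e.symm.toRingHom) (by
      rw [Polynomial.degree_map]; exact (Polynomial.degree_pos_of_irreducible hirr).ne') hPsep.map
    refine ⟨e x, ?_⟩
    have h2 := congrArg e hx
    rw [map_zero] at h2
    rw [Polynomial.IsRoot.def, Polynomial.eval_map] at *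
    rw [← h2]
    have h3 := Polynomial.hom_eval₂ P e.symm.toRingHom e.toRingHom x
    rw [RingEquiv.toRingHom_comp_symm_toRingHom, Polynomial.eval₂_id] at h3
    exact h3.symm
  haveI : IsRegularLocalRing B := by
    haveI := hreg (maximalIdeal B)
    exact IsRegularLocalRing.of_ringEquiv
      (IsLocalization.atUnits B (maximalIdeal B).primeCompl (S := Localization.AtPrime (maximalIdeal B))
        (fun x hx => of_not_not fun h => hx ((mem_maximalIdeal x).2 h))).symm.toRingEquiv
  haveI := Groth.L10.RegUFD.isUFD B
  have hnA : ∀ i, IsUnit (n i : A) := fun i => by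
    rw [← residue_ne_zero_iff_isUnit, map_natCast]; exact (hnu i).ne_zero
  have hT : ∀ i, (Ideal.span {root f n i}).IsPrime := fun i =>
    (Ideal.span_singleton_prime (root_prime A hf hn i).ne_zero).2 (root_prime A hf hn i)
  -- the roots in `B`
  have hπ : ∀ i, ∃ (a : ℕ) (π : B), 1 ≤ a ∧ a ∣ n i ∧ π ^ a = algebraMap A B (f i) ∧
      Ideal.span {π} = (Ideal.span {root f n i}).comap ι.toRingHom := by
    intro i
    haveI := hT i
    have hfi : f i ≠ 0 := fun h => notMem_sup A hf i (by rw [h]; exact zero_mem _)
    let Q := (Ideal.span {root f n i}).comap ι.toRingHom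
    haveI : Q.IsPrime := Ideal.comap_isPrime _ _
    have hfQ : algebraMap A B (f i) ∈ Q := by
      show ι (algebraMap A B (f i)) ∈ Ideal.span {root f n i}
      rw [ι.commutes, ← root_pow f n i]
      exact Ideal.pow_mem_of_mem _ (Ideal.mem_span_singleton_self _) _ (hn i)
    have hQ0 : Q ≠ ⊥ := fun h => hfi (hinjAB (by rw [map_zero]; exact (h ▸ hfQ : algebraMap A B (f i) ∈ (⊥ : Ideal B))))
    have key : ∀ π : B, Prime π → π ∣ algebraMap A B (f i) → Ideal.span {π} = Q := by
      intro π hπ hdvd
      haveI := (Ideal.span_singleton_prime hπ.ne_zero).2 hπ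
      obtain ⟨P, -, hP, hPc⟩ := Ideal.exists_ideal_over_prime_of_isIntegral (Ideal.span {π}) (⊥ : Ideal R) (by
        rw [← RingHom.ker_eq_comap_bot, (RingHom.injective_iff_ker_eq_bot (algebraMap B R)).1 hι]; exact bot_le)
      have hTP : root f n i ∈ P := by
        refine hP.mem_of_pow_mem (n i) ?_
        rw [root_pow, ← ι.commutes]
        have h : algebraMap A B (f i) ∈ P.comap (algebraMap B R) := hPc ▸ Ideal.mem_span_singleton.2 hdvd
        exact h
      have hle : Q ≤ Ideal.span {π} := by
        rw [← hPc]; exact Ideal.comap_mono ((Ideal.span_singleton_le_iff_mem _).2 hTP)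
      obtain ⟨π', hπ'Q, hπ'⟩ := Ideal.IsPrime.exists_mem_prime_of_ne_bot (inferInstance : Q.IsPrime) hQ0
      refine le_antisymm ((Ideal.span_singleton_le_iff_mem _).2 ?_) hle
      have hass : Associated π π' := hπ.associated_of_dvd hπ' (Ideal.mem_span_singleton.1 (hle hπ'Q))
      obtain ⟨v, hv⟩ := hass.symm
      rw [← hv]
      exact Ideal.mul_mem_right _ _ hπ'Q
    obtain ⟨s, hs, hsprod⟩ := UniqueFactorizationMonoid.exists_prime_factors (algebraMap A B (f i))
      (fun h => hfi (hinjAB (h.trans (map_zero _).symm)))
    obtain ⟨π₀, hπ₀⟩ : ∃ π₀, π₀ ∈ s := Multiset.exists_mem_of_ne_zero fun h => by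
      rw [h, Multiset.prod_zero] at hsprod
      exact (hm i) (isUnit_of_map_unit (algebraMap A B) _ (hsprod.isUnit isUnit_one))
    have hdvd : ∀ π ∈ s, π ∣ algebraMap A B (f i) := fun π hπ => (Multiset.dvd_prod hπ).trans hsprod.dvd
    have hQ : Ideal.span {π₀} = Q := key π₀ (hs π₀ hπ₀) (hdvd π₀ hπ₀)
    have hall : ∀ t : Multiset B, (∀ x ∈ t, Associated x π₀) → Associated t.prod (π₀ ^ Multiset.card t) := by
      intro t
      induction t using Multiset.induction with
      | empty => intro _; simp
      | cons x t ih =>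
        intro h
        rw [Multiset.prod_cons, Multiset.card_cons, pow_succ']
        exact (h x (Multiset.mem_cons_self _ _)).mul_mul (ih fun y hy => h y (Multiset.mem_cons_of_mem hy))
    have hass : Associated (π₀ ^ Multiset.card s) (algebraMap A B (f i)) := (hall s fun x hx =>
      Ideal.span_singleton_eq_span_singleton.1 ((key x (hs x hx) (hdvd x hx)).trans hQ.symm)).symm.trans hsprod
    set a := Multiset.card s with ha_def
    have ha : 1 ≤ a := Multiset.card_pos_iff_exists_mem.2 ⟨π₀, hπ₀⟩
    have hTp := root_prime A hf hn i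
    have hassR : Associated (ι π₀ ^ a) (root f n i ^ n i) := by
      have := hass.map ι
      rwa [map_pow, ι.commutes, ← root_pow f n i] at this
    obtain ⟨b, -, hb⟩ := (dvd_prime_pow hTp (n i)).1 ((dvd_pow_self (ι π₀) (by omega)).trans hassR.dvd)
    have han : Associated (root f n i ^ (b * a)) (root f n i ^ n i) := by
      rw [pow_mul]; exact (hb.pow_pow.symm).trans hassR
    have hba : b * a = n i := le_antisymm
      ((pow_dvd_pow_iff hTp.ne_zero hTp.not_isUnit).1 han.dvd)
      ((pow_dvd_pow_iff hTp.ne_zero hTp.not_isUnit).1 han.symm.dvd)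
    obtain ⟨u, hu⟩ := hass
    have haB : (a : ResidueField B) ≠ 0 := fun h => by
      have h2 : IsUnit ((n i : ℕ) : ResidueField B) := by
        rw [← map_natCast (residue B), ← map_natCast (algebraMap A B)]; exact ((hnA i).map _).map _
      rw [← hba, Nat.cast_mul, h, mul_zero] at h2
      exact not_isUnit_zero h2
    obtain ⟨w, hw⟩ := exists_root_of_unit haB u
    refine ⟨a, π₀ * w, ha, ⟨b, by rw [← hba, mul_comm]⟩, ?_, ?_⟩
    · rw [mul_pow, ← Units.val_pow_eq_pow_val, hw]; exact hu
    · rw [Ideal.span_singleton_mul_right_unit w.isUnit]; exact hQ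
  choose a π ha1 hadvd hπpow hπspan using hπ
  have hau : ∀ i, IsUnit ((a i : ℕ) : ResidueField A) := fun i => by
    obtain ⟨c, hc⟩ := hadvd i
    have h := hnu i
    rw [hc, Nat.cast_mul] at h
    exact isUnit_of_mul_isUnit_left h
  refine ⟨a, ha1, hau, ?_⟩
  let Ra := SGA1.kummerAlg A f a
  haveI : IsRegularLocalRing Ra := isRegular_kummer A hf ha1
  haveI : IsDomain Ra := isDomain_kummer A hf ha1
  haveI : Module.Finite A Ra := Groth.Agent.S2921.finite_kummerAlg f a ha1
  let χ : Ra →ₐ[A] B := AlgHom.mk (liftHom (algebraMap A B) π hπpow) fun c => liftHom_algebraMap _ _ _ c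
  have hχroot : ∀ i, χ (root f a i) = π i := fun i => liftHom_root (algebraMap A B) π hπpow i
  have hχ : Function.Injective χ := by
    refine (RingHom.injective_iff_ker_eq_bot χ.toRingHom).2 ?_
    haveI : (RingHom.ker χ.toRingHom).IsPrime := RingHom.ker_isPrime _
    refine Ideal.eq_bot_of_comap_eq_bot (R := A) (eq_bot_iff.2 fun c hc => ?_)
    have h0 : χ (algebraMap A Ra c) = 0 := hc
    rw [χ.commutes] at h0
    exact hinjAB (h0.trans (map_zero _).symm)
  letI : Algebra Ra B := χ.toRingHom.toAlgebra
  haveI : IsScalarTower A Ra B := IsScalarTower.of_algebraMap_eq (R := A) (S := Ra) (A := B) fun c =>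
    (χ.commutes c).symm
  haveI : Module.Finite Ra B := Module.Finite.of_restrictScalars_finite A Ra B
  haveI : IsIntegrallyClosed B := Groth.L03.RegularNormal.isIntegrallyClosed B
  have hF : ∀ (P : Ideal B) [P.IsPrime], algebraMap A B (∏ i, f i) ∉ P → Algebra.IsUnramifiedAt Ra P := by
    intro P _ hP
    haveI : Algebra.FormallyUnramified A (Localization.AtPrime P) := isUnramifiedAt_of_etale_away (∏ i, f i) P hP
    exact Algebra.FormallyUnramified.of_restrictScalars A Ra (Localization.AtPrime P)
  have hcodim : Groth.L13.Purity.UnramifiedCodimOne Ra B := by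
    intro P _ hP1
    by_cases hPF : algebraMap A B (∏ i, f i) ∈ P
    · rw [IsScalarTower.algebraMap_apply A Ra B, ← Ideal.mem_comap] at hPF
      obtain ⟨i, hi⟩ := eq_span_root_of_mem hf ha1 hP1 hPF
      haveI := hT i
      haveI : (Ideal.span {root f a i}).IsPrime := hi ▸ Ideal.comap_isPrime _ _
      have hπP : π i ∈ P := by
        have : root f a i ∈ P.comap (algebraMap Ra B) := hi ▸ Ideal.mem_span_singleton_self _
        rw [Ideal.mem_comap] at this
        rwa [← hχroot]
      haveI hπpr : (Ideal.span {π i}).IsPrime := hπspan i ▸ Ideal.comap_isPrime _ _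
      haveI : Algebra.IsIntegral Ra B := Algebra.IsIntegral.of_finite Ra B
      have hPeq : Ideal.span {π i} = P := by
        refine (eq_or_lt_of_le ((Ideal.span_singleton_le_iff_mem _).2 hπP)).resolve_right fun hlt => ?_
        have h1 := Ideal.IsIntegral.comap_lt_comap (R := Ra) hlt
        rw [hi] at h1
        refine h1.not_ge ((Ideal.span_singleton_le_iff_mem _).2 ?_)
        show χ (root f a i) ∈ Ideal.span {π i}
        rw [hχroot]; exact Ideal.mem_span_singleton_self _
      haveI : P.LiesOver (Ideal.span {root f a i}) := ⟨hi.symm⟩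
      letI := Localization.AtPrime.algebraOfLiesOver (Ideal.span {root f a i}) P
      rw [Algebra.isUnramifiedAt_iff_map_eq Ra (Ideal.span {root f a i}) P]
      refine ⟨?_, ?_⟩
      · -- residue extension
        let p0 := Ideal.span {f i}
        let p1 := Ideal.span {root f a i}
        let p3 := Ideal.span {root f n i}
        have h01 : p0 = p1.comap (algebraMap A Ra) := (comap_span_root A hf ha1 i).symm
        have h03 : p0 = p3.comap (algebraMap A R) := (comap_span_root A hf hn i).symm
        have h23 : P = p3.comap ι.toRingHom := by rw [← hPeq]; exact hπspan i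
        letI : Algebra p0.ResidueField p3.ResidueField :=
          (Ideal.ResidueField.map p0 p3 (algebraMap A R) h03).toAlgebra
        letI : Algebra p0.ResidueField p1.ResidueField :=
          (Ideal.ResidueField.map p0 p1 (algebraMap A Ra) h01).toAlgebra
        letI : Algebra P.ResidueField p3.ResidueField := (Ideal.ResidueField.map P p3 ι.toRingHom h23).toAlgebra
        letI : Algebra p1.ResidueField p3.ResidueField :=
          ((algebraMap P.ResidueField p3.ResidueField).comp (algebraMap p1.ResidueField P.ResidueField)).toAlgebra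
        haveI : IsScalarTower p1.ResidueField P.ResidueField p3.ResidueField := IsScalarTower.of_algebraMap_eq' rfl
        haveI : IsScalarTower p0.ResidueField p1.ResidueField p3.ResidueField := by
          refine IsScalarTower.of_algebraMap_eq' (Ideal.ResidueField.ringHom_ext (RingHom.ext fun c => ?_))
          show algebraMap p0.ResidueField p3.ResidueField (algebraMap A _ c) =
            Ideal.ResidueField.map P p3 ι.toRingHom h23 (algebraMap p1.ResidueField P.ResidueField
              (Ideal.ResidueField.map p0 p1 (algebraMap A Ra) h01 (algebraMap A _ c)))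
          rw [RingHom.algebraMap_toAlgebra, Ideal.ResidueField.map_algebraMap, Ideal.ResidueField.map_algebraMap,
            ← IsScalarTower.algebraMap_apply Ra p1.ResidueField P.ResidueField,
            IsScalarTower.algebraMap_apply Ra B P.ResidueField, Ideal.ResidueField.map_algebraMap,
            ← IsScalarTower.algebraMap_apply A Ra B]
          exact congrArg _ (ι.commutes c).symm
        haveI : Algebra.IsSeparable p0.ResidueField p3.ResidueField :=
          isSeparable_residueField_root A hf hn hnA i fun c => by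
            rw [RingHom.algebraMap_toAlgebra, Ideal.ResidueField.map_algebraMap]
        haveI : Algebra.IsSeparable p1.ResidueField p3.ResidueField :=
          Algebra.isSeparable_tower_top_of_isSeparable p0.ResidueField p1.ResidueField p3.ResidueField
        exact Algebra.isSeparable_tower_bot_of_isSeparable p1.ResidueField P.ResidueField p3.ResidueField
      · rw [Ideal.map_span, Set.image_singleton, IsScalarTower.algebraMap_apply Ra B (Localization.AtPrime P),
          ← Set.image_singleton, ← Ideal.map_span]
        rw [show algebraMap Ra B (root f a i) = π i from hχroot i, hPeq]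
        exact Localization.AtPrime.map_eq_maximalIdeal
    · exact hF P hPF
  have hbot : Algebra.IsUnramifiedAt Ra (⊥ : Ideal B) := hF ⊥ fun h =>
    prod_ne_zero hf (hinjAB (by rw [map_zero]; exact h))
  haveI : Algebra.Etale Ra B := Groth.L13.Purity.etale_of_finite_of_unramified hχ hbot hcodim
  exact ⟨(AlgEquiv.ofBijective χ ⟨hχ, surjective_of_unramified_kummer A hf ha1 B⟩).symm⟩

end Groth.L27.AbsAbh
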