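import Groth.Agent.L27.AbsAbh.Levels

/-! Tools for the structure of regular tame covers over a strictly henselian base. -/

set_option autoImplicit false
set_option linter.style.haveILetI false
set_option backward.isDefEq.respectTransparency false

universe u

open IsLocalRing EtRam Polynomial TensorProduct

namespace Groth.L27.AbsAbh

/-- tameness only depends on the extension field up to isomorphism -/
theorem isTamelyRamified_congr {A : Type u} [CommRing A] [IsLocalRing A] {L L' : Type u} [Field L] [Field L']
    (σ : L' ≃+* L) (g : A →+* L') (h : IsTamelyRamified A (σ.toRingHom.comp g)) : IsTamelyRamified A g := by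
  intro V hV
  let W := V.comap σ.symm.toRingHom
  have hmem : ∀ x : L', x ∈ V → σ x ∈ W := fun x hx => by
    show σ.symm (σ x) ∈ V
    rwa [RingEquiv.symm_apply_apply]
  let e : V ≃+* W :=
    { toFun := fun x => ⟨σ x, hmem x x.2⟩
      invFun := fun y => ⟨σ.symm y, y.2⟩
      left_inv := fun x => Subtype.ext (σ.symm_apply_apply _)
      right_inv := fun y => Subtype.ext (σ.apply_symm_apply _)
      map_mul' := fun x y => Subtype.ext (map_mul σ (x : L') (y : L'))
      map_add' := fun x y => Subtype.ext (map_add σ (x : L') (y : L')) }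
  have hW : Dominates A (σ.toRingHom.comp g) W := by
    refine ⟨fun a => hmem _ (hV.1 a), fun a ha => ?_⟩
    refine (W.valuation_lt_one_iff (e ⟨g a, hV.1 a⟩)).1 ((mem_maximalIdeal _).2 fun hu => ?_)
    have h1 := hu.map e.symm
    rw [RingEquiv.symm_apply_apply] at h1
    exact (mem_maximalIdeal _).1 ((V.valuation_lt_one_iff ⟨g a, hV.1 a⟩).2 (hV.2 a ha)) h1
  letI algV : Algebra A V := (RingHom.codRestrict g V hV.1).toAlgebra
  intro hlocV
  letI algW : Algebra A W := (RingHom.codRestrict (σ.toRingHom.comp g) W hW.1).toAlgebra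
  have hcomp : (algebraMap A W) = e.toRingHom.comp (algebraMap A V) := RingHom.ext fun a => Subtype.ext rfl
  haveI : IsLocalHom (algebraMap A W) := ⟨fun a ha => by
    rw [hcomp] at ha
    have h1 := ha.map e.symm
    simp only [RingHom.comp_apply, RingEquiv.toRingHom_eq_coe, RingHom.coe_coe, RingEquiv.symm_apply_apply] at h1
    exact hlocV.map_nonunit a h1⟩
  obtain ⟨h1, h2⟩ := h W hW
  refine ⟨?_, fun p hp hc hd => h2 p hp hc ?_⟩
  · haveI := h1
    refine Algebra.IsSeparable.of_equiv_equiv (RingEquiv.refl (ResidueField A)) (ResidueField.mapEquiv e.symm) ?_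
    refine RingHom.ext fun z => ?_
    obtain ⟨a, rfl⟩ := residue_surjective z
    show residue V (algebraMap A V a) = residue V (e.symm (algebraMap A W a))
    rw [hcomp, RingHom.comp_apply, RingEquiv.toRingHom_eq_coe, RingHom.coe_coe, RingEquiv.symm_apply_apply]
  · convert hd using 1
    unfold Ideal.ramificationIdx'
    congr 1
    ext m
    simp only [Set.mem_setOf_eq]
    rw [← IsLocalRing.map_ringEquiv_maximalIdeal e, hcomp, ← Ideal.map_map, ← Ideal.map_pow]
    exact ⟨fun h => (Ideal.map_le_iff_le_comap.1 h).trans
      (Ideal.comap_map_of_bijective e e.bijective).le, fun h => Ideal.map_mono h⟩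

section Strict

variable (A : Type u) [CommRing A] [IsRegularLocalRing A] [IsDomain A] {r : ℕ} {f : Fin r → A}
  {hm : ∀ i, f i ∈ maximalIdeal A}
  (hf : LinearIndependent (ResidueField A) (fun i => (maximalIdeal A).toCotangent ⟨f i, hm i⟩))
  {n : Fin r → ℕ} (hn : ∀ i, 1 ≤ n i)

include hf hn in
/-- the Kummer algebra has the residue field of the base -/
theorem exists_sub_mem_kummer [IsLocalRing (SGA1.kummerAlg A f n)] (x : SGA1.kummerAlg A f n) :
    ∃ a : A, x - algebraMap A _ a ∈ maximalIdeal (SGA1.kummerAlg A f n) := by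
  induction x using kummer_induction with
  | hC a => exact ⟨a, by rw [sub_self]; exact zero_mem _⟩
  | hadd x y hx hy =>
    obtain ⟨a, ha⟩ := hx
    obtain ⟨b, hb⟩ := hy
    exact ⟨a + b, by rw [map_add, add_sub_add_comm]; exact add_mem ha hb⟩
  | hmul x i _ =>
    exact ⟨0, by rw [map_zero, sub_zero]; exact Ideal.mul_mem_left _ _ (root_mem A hf hn i)⟩

include hf hn in
/-- an unramified finite domain over a Kummer algebra of a strictly henselian ring is trivial -/
theorem surjective_of_unramified_kummer [HenselianLocalRing A] [IsSepClosed (ResidueField A)]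
    [IsRegularLocalRing (SGA1.kummerAlg A f n)] (D : Type u) [CommRing D] [IsDomain D]
    [Algebra (SGA1.kummerAlg A f n) D] [Module.Finite (SGA1.kummerAlg A f n) D]
    [Algebra.FormallyUnramified (SGA1.kummerAlg A f n) D] :
    Function.Surjective (algebraMap (SGA1.kummerAlg A f n) D) := by
  haveI : Module.Finite A (SGA1.kummerAlg A f n) := Groth.Agent.S2921.finite_kummerAlg f n hn
  haveI : IsLocalHom (algebraMap A (SGA1.kummerAlg A f n)) :=
    RingHom.IsIntegral.isLocalHom (Algebra.IsIntegral.isIntegral (R := A)) (injective_kummer A hn)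
  exact surjective_of_formallyUnramified A (SGA1.kummerAlg A f n) D (exists_sub_mem_kummer A hf hn)

include hf hn in
/-- the residue field of a root is separable over that of its equation when the exponents are units -/
theorem isSeparable_residueField_root [∀ i, (Ideal.span {f i}).IsPrime] (hnu : ∀ j, IsUnit (n j : A)) (i : Fin r)
    [hpr : (Ideal.span {root f n i}).IsPrime]
    [Algebra (Ideal.span {f i}).ResidueField (Ideal.span {root f n i}).ResidueField]
    (hcompat : ∀ a : A, algebraMap (Ideal.span {f i}).ResidueField (Ideal.span {root f n i}).ResidueField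
      (algebraMap A _ a) = algebraMap (SGA1.kummerAlg A f n) _ (algebraMap A _ a)) :
    Algebra.IsSeparable (Ideal.span {f i}).ResidueField (Ideal.span {root f n i}).ResidueField := by
  let κ := (Ideal.span {f i}).ResidueField
  let κ' := (Ideal.span {root f n i}).ResidueField
  have hroot : ∀ j, algebraMap (SGA1.kummerAlg A f n) κ' (root f n j) ∈ separableClosure κ κ' := by
    intro j
    rw [mem_separableClosure_iff]
    rcases eq_or_ne j i with rfl | hne
    · rw [Ideal.algebraMap_residueField_eq_zero.2 (Ideal.mem_span_singleton_self _),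
        ← map_zero (algebraMap κ κ')]
      exact isSeparable_algebraMap _
    · have hc : algebraMap A κ (f j) ≠ 0 := fun h => notMem_sup A hf j (by
        obtain ⟨c, hc⟩ := Ideal.mem_span_singleton'.1 (Ideal.algebraMap_residueField_eq_zero.1 h)
        rw [← hc]
        exact Ideal.mem_sup_right (Ideal.mul_mem_left _ _ (Ideal.subset_span ⟨i, hne.symm, rfl⟩)))
      have hnκ : (n j : κ) ≠ 0 := by
        rw [← map_natCast (algebraMap A κ)]; exact ((hnu j).map _).ne_zero
      refine (separable_X_pow_sub_C (n := n j) (algebraMap A κ (f j)) hnκ hc).of_dvd (minpoly.dvd _ _ ?_)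
      rw [map_sub, aeval_X_pow, aeval_C, hcompat, ← map_pow, root_pow, sub_self]
  have hR : ∀ x, algebraMap (SGA1.kummerAlg A f n) κ' x ∈ separableClosure κ κ' := by
    intro x
    induction x using kummer_induction with
    | hC a => rw [← hcompat]; exact (separableClosure κ κ').algebraMap_mem _
    | hadd x y hx hy => rw [map_add]; exact add_mem hx hy
    | hmul x j hx => rw [map_mul]; exact mul_mem hx (hroot j)
  refine ⟨fun z => mem_separableClosure_iff.1 ?_⟩
  obtain ⟨a, b, -, rfl⟩ := IsFractionRing.div_surjective (SGA1.kummerAlg A f n ⧸ Ideal.span {root f n i}) z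
  obtain ⟨a, rfl⟩ := Ideal.Quotient.mk_surjective a
  obtain ⟨b, rfl⟩ := Ideal.Quotient.mk_surjective b
  exact div_mem (hR a) (hR b)

end Strict

/-- units of a strictly henselian local ring have roots -/
theorem exists_root_of_unit {B : Type u} [CommRing B] [HenselianLocalRing B] [IsSepClosed (ResidueField B)] {a : ℕ}
    (ha : (a : ResidueField B) ≠ 0) (u : Bˣ) : ∃ w : Bˣ, w ^ a = u := by
  have hn : a ≠ 0 := fun h => ha (by rw [h, Nat.cast_zero])
  haveI : NeZero (a : ResidueField B) := ⟨ha⟩
  obtain ⟨x, hx⟩ := IsSepClosed.exists_pow_nat_eq (residue B u) a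
  obtain ⟨b₀, rfl⟩ := residue_surjective x
  have hb₀ : residue B b₀ ≠ 0 := fun h => by
    rw [h, zero_pow hn] at hx
    exact (u.isUnit.map (residue B)).ne_zero hx.symm
  obtain ⟨b, hb, -⟩ := HenselianLocalRing.is_henselian (X ^ a - Polynomial.C (u : B))
    (monic_X_pow_sub_C _ hn) b₀ (by rw [← residue_eq_zero_iff]; simp [hx])
    (by
      rw [← residue_ne_zero_iff_isUnit]
      simp only [derivative_sub, derivative_X_pow, derivative_C, sub_zero, eval_mul, eval_natCast, eval_C, eval_pow,
        eval_X, map_mul, map_natCast, map_pow]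
      exact mul_ne_zero ha (pow_ne_zero _ hb₀))
  have hb' : b ^ a = u := by simpa [Polynomial.IsRoot, sub_eq_zero] using hb
  have hbu : IsUnit b := (isUnit_pow_iff hn).1 (hb' ▸ u.isUnit)
  exact ⟨hbu.unit, Units.ext (by simpa using hb')⟩

end Groth.L27.AbsAbh
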