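import Groth.Agent.L27.AbsAbh.Basic
import Groth.Agent.L05.Hensel.IntegralDomain
import Groth.Agent.L05.Hensel.Product
import Groth.Agent.L13.Purity.Main
import Mathlib.RingTheory.Unramified.Locus
import Mathlib.RingTheory.Unramified.LocalRing
import Mathlib.FieldTheory.KummerExtension
import Mathlib.FieldTheory.IsAlgClosed.AlgebraicClosure

/-! Tools for removing a factor from a Kummer exponent. -/

set_option autoImplicit false
set_option linter.style.haveILetI false
set_option backward.isDefEq.respectTransparency false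

universe u

open IsLocalRing Polynomial TensorProduct TrivSqZeroExt

namespace Groth.L27.AbsAbh

/-- a domain finite and unramified over a finite extension of a strictly henselian ring with trivial
residue extension is trivial -/
theorem surjective_of_formallyUnramified (S S1 D : Type u) [CommRing S] [HenselianLocalRing S]
    [IsSepClosed (ResidueField S)] [CommRing S1] [IsLocalRing S1] [Algebra S S1] [Module.Finite S S1]
    [IsLocalHom (algebraMap S S1)]
    (hres : ∀ x : S1, ∃ s : S, x - algebraMap S S1 s ∈ maximalIdeal S1)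
    [CommRing D] [IsDomain D] [Algebra S1 D] [Module.Finite S1 D] [Algebra.FormallyUnramified S1 D] :
    Function.Surjective (algebraMap S1 D) := by
  letI : Algebra S D := ((algebraMap S1 D).comp (algebraMap S S1)).toAlgebra
  haveI : IsScalarTower S S1 D := IsScalarTower.of_algebraMap_eq' rfl
  haveI : Module.Finite S D := Module.Finite.trans S1 D
  haveI : IsLocalRing D := Groth.L05.isLocalRing_of_finite_domain (A := S) D
  haveI hloc : IsLocalHom (algebraMap S1 D) := ((IsLocalRing.local_hom_TFAE _).out 0 4).mpr (by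
    have : ((maximalIdeal D).comap (algebraMap S1 D)).IsMaximal :=
      Ideal.isMaximal_comap_of_isIntegral_of_isMaximal _
    exact IsLocalRing.eq_maximalIdeal this)
  haveI : IsLocalHom (algebraMap S D) := RingHom.isLocalHom_comp _ _
  have hmax := Algebra.FormallyUnramified.map_maximalIdeal (R := S1) (S := D)
  haveI : IsScalarTower (ResidueField S) (ResidueField S1) (ResidueField D) :=
    IsScalarTower.of_algebraMap_eq fun z => by
      obtain ⟨z, rfl⟩ := residue_surjective z
      rfl
  haveI : Algebra.IsSeparable (ResidueField S) (ResidueField S1) := ⟨fun z => by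
    obtain ⟨x, rfl⟩ := residue_surjective z
    obtain ⟨s, hs⟩ := hres x
    have : residue S1 x = algebraMap (ResidueField S) (ResidueField S1) (residue S s) :=
      Ideal.Quotient.eq.2 hs
    rw [this]
    exact isSeparable_algebraMap _⟩
  haveI : Algebra.IsSeparable (ResidueField S) (ResidueField D) :=
    Algebra.IsSeparable.trans (ResidueField S) (ResidueField S1) (ResidueField D)
  have hsur : ∀ d : D, ∃ s : S, d - algebraMap S D s ∈ maximalIdeal D := fun d => by
    obtain ⟨z, hz⟩ := IsSepClosed.algebraMap_surjective (ResidueField S) (ResidueField D) (residue D d)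
    obtain ⟨s, rfl⟩ := residue_surjective z
    exact ⟨s, Ideal.Quotient.eq.1 hz.symm⟩
  have htop : (⊤ : Submodule S1 D) ≤ LinearMap.range (Algebra.linearMap S1 D) := by
    refine Submodule.le_of_le_smul_of_le_jacobson_bot Module.Finite.fg_top
      (maximalIdeal_le_jacobson (⊥ : Ideal S1)) fun d _ => ?_
    obtain ⟨s, hs⟩ := hsur d
    rw [← hmax] at hs
    rw [Ideal.smul_top_eq_map]
    refine Submodule.mem_sup.2 ⟨algebraMap S D s, ⟨algebraMap S S1 s, ?_⟩, d - algebraMap S D s, hs,
      add_sub_cancel _ _⟩
    rfl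
  exact fun d => htop (Submodule.mem_top (x := d))

/-- unramifiedness over a prime spreads to a basic open of the base -/
theorem exists_formallyUnramified_away {R C : Type u} [CommRing R] [CommRing C] [Algebra R C] [Module.Finite R C]
    (p : Ideal R) [p.IsPrime]
    (h : ∀ (P : Ideal C) [P.IsPrime], P.comap (algebraMap R C) = p → Algebra.IsUnramifiedAt R P) :
    ∃ a ∉ p, Algebra.FormallyUnramified R (Localization.Away (algebraMap R C a)) := by
  have hopen : IsOpen (Algebra.unramifiedLocus R C) := Algebra.isOpen_unramifiedLocus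
  obtain ⟨I, hI⟩ := (PrimeSpectrum.isClosed_iff_zeroLocus_ideal _).1 hopen.isClosed_compl
  have hle : ¬ I.comap (algebraMap R C) ≤ p := fun hle => by
    obtain ⟨Q, hQ, hQp, hQc⟩ := Ideal.exists_ideal_over_prime_of_isIntegral p I hle
    have h1 : (⟨Q, hQp⟩ : PrimeSpectrum C) ∈ (Algebra.unramifiedLocus R C)ᶜ := by
      rw [hI]; exact hQ
    exact h1 (h Q hQc)
  obtain ⟨a, ha, hap⟩ := SetLike.not_le_iff_exists.1 hle
  refine ⟨a, hap, Algebra.basicOpen_subset_unramifiedLocus_iff.1 fun Q hQ => ?_⟩
  by_contra hQu
  have h1 : Q ∈ PrimeSpectrum.zeroLocus (I : Set C) := hI ▸ hQu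
  exact hQ (h1 ha)

/-- a finite unramified domain over a discrete valuation ring is normal -/
theorem isIntegrallyClosed_of_formallyUnramified (R D : Type u) [CommRing R] [IsDomain R]
    [IsDiscreteValuationRing R] [CommRing D] [IsDomain D] [Algebra R D] [Module.Finite R D]
    [Algebra.FormallyUnramified R D] (hinj : Function.Injective (algebraMap R D)) : IsIntegrallyClosed D := by
  haveI : IsNoetherianRing D := IsNoetherianRing.of_finite R D
  refine IsIntegrallyClosed.of_localization_maximal fun N hN hNm => ?_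
  haveI : N.LiesOver (maximalIdeal R) := ⟨(IsLocalRing.eq_maximalIdeal
    (Ideal.isMaximal_comap_of_isIntegral_of_isMaximal (R := R) N)).symm⟩
  haveI : Algebra.IsUnramifiedAt R N :=
    Algebra.FormallyUnramified.comp R D (Localization.AtPrime N)
  letI := Localization.AtPrime.algebraOfLiesOver (maximalIdeal R) N
  have hmax := ((Algebra.isUnramifiedAt_iff_map_eq R (maximalIdeal R) N).1 inferInstance).2
  haveI : IsDomain (Localization.AtPrime N) := IsLocalization.isDomain_localization N.primeCompl_le_nonZeroDivisors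
  have hnf : ¬ IsField (Localization.AtPrime N) := fun h => by
    obtain ⟨ϖ, hϖ⟩ := IsDiscreteValuationRing.exists_irreducible R
    have h1 : algebraMap R (Localization.AtPrime N) ϖ ∈ maximalIdeal (Localization.AtPrime N) :=
      hmax ▸ Ideal.mem_map_of_mem _ ((mem_maximalIdeal _).2 hϖ.not_isUnit)
    rw [IsLocalRing.isField_iff_maximalIdeal_eq.1 h, Ideal.mem_bot,
      IsScalarTower.algebraMap_apply R D (Localization.AtPrime N),
      IsLocalization.to_map_eq_zero_iff _ N.primeCompl_le_nonZeroDivisors] at h1
    exact hϖ.ne_zero (hinj (h1.trans (map_zero _).symm))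
  have hprinc : (maximalIdeal (Localization.AtPrime N)).IsPrincipal := by
    obtain ⟨ϖ, hϖ⟩ := IsDiscreteValuationRing.exists_irreducible R
    rw [← hmax, hϖ.maximalIdeal_eq, Ideal.map_span, Set.image_singleton]
    exact ⟨⟨_, rfl⟩⟩
  have tf := IsDiscreteValuationRing.TFAE (Localization.AtPrime N) hnf
  have h4 : (maximalIdeal (Localization.AtPrime N)).IsPrincipal → IsDiscreteValuationRing (Localization.AtPrime N) :=
    (tf.out 0 4).2
  haveI := h4 hprinc
  infer_instance

/-- `X ^ p - t` is inseparable modulo `p` -/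
theorem not_formallyUnramified_adjoinRoot (R : Type u) [CommRing R] [IsLocalRing R] (p : ℕ) (hp : p.Prime)
    (hpm : (p : R) ∈ maximalIdeal R) (t : R) :
    ¬ Algebra.FormallyUnramified R (AdjoinRoot (X ^ p - C t : R[X])) := by
  intro h
  let k := AlgebraicClosure (ResidueField R)
  letI : Algebra R k := ((algebraMap (ResidueField R) k).comp (residue R)).toAlgebra
  letI : Algebra R (DualNumber k) := ((inlHom k k).comp (algebraMap R k)).toAlgebra
  have hpk : (p : k) = 0 := by
    rw [← map_natCast (algebraMap R k) p]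
    show algebraMap (ResidueField R) k (residue R (p : R)) = 0
    rw [(residue_eq_zero_iff _).2 hpm, map_zero]
  obtain ⟨a, ha⟩ := IsAlgClosed.exists_pow_nat_eq (algebraMap R k t) hp.pos
  have hroot : ∀ c : k, ((inl a + inr c : DualNumber k)) ^ p = algebraMap R (DualNumber k) t := fun c => by
    refine TrivSqZeroExt.ext ?_ ?_
    · rw [fst_pow]
      show (a + 0) ^ p = algebraMap R k t
      rw [add_zero, ha]
    · rw [snd_pow]
      show p • _ = (0 : k)
      rw [nsmul_eq_mul, hpk, zero_mul]
  let g : k → (AdjoinRoot (X ^ p - C t : R[X]) →ₐ[R] DualNumber k) := fun c =>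
    AdjoinRoot.liftAlgHom _ (Algebra.ofId R (DualNumber k)) (inl a + inr c) (by
      rw [eval₂_sub, eval₂_X_pow, eval₂_C, hroot]
      exact sub_self _)
  have hg : ∀ c, g c (AdjoinRoot.root _) = inl a + inr c := fun c => by simp [g]
  have heq : g 0 = g 1 := by
    refine Algebra.FormallyUnramified.ext' (fstHom k k k).toRingHom ⟨2, ?_⟩ _ _ fun x => ?_
    · rw [Ideal.zero_eq_bot, eq_bot_iff, pow_two, Ideal.mul_le]
      intro y hy z hz
      rw [RingHom.mem_ker] at hy hz
      have hy' : fst y = 0 := hy
      have hz' : fst z = 0 := hz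
      rw [Ideal.mem_bot]
      refine TrivSqZeroExt.ext ?_ ?_
      · rw [fst_mul, hy', zero_mul, fst_zero]
      · rw [snd_mul, hy', hz']
        simp
    · induction x using AdjoinRoot.induction_on with
      | _ P =>
        have : ∀ c, (fstHom k k k).toRingHom (g c (AdjoinRoot.mk _ P)) = P.eval₂ (algebraMap R k) a := fun c => by
          have h1 : ((fstHom k k k).toRingHom.comp (g c).toRingHom).comp (AdjoinRoot.mk _) =
              eval₂RingHom (algebraMap R k) a := by
            refine Polynomial.ringHom_ext (fun r => ?_) ?_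
            · rw [coe_eval₂RingHom, eval₂_C]
              show fst (g c (AdjoinRoot.mk _ (C r))) = _
              rw [show AdjoinRoot.mk (X ^ p - C t : R[X]) (C r) = algebraMap R _ r from rfl, AlgHom.commutes]
              rfl
            · rw [coe_eval₂RingHom, eval₂_X]
              show fst (g c (AdjoinRoot.mk _ X)) = _
              rw [AdjoinRoot.mk_X, hg]
              simp
          exact RingHom.congr_fun h1 P
        rw [this, this]
  have h2 := congrArg snd (AlgHom.congr_fun heq (AdjoinRoot.root _))
  rw [hg, hg, snd_add, snd_add, snd_inl, snd_inr, snd_inr, zero_add, zero_add] at h2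
  exact zero_ne_one h2

/-- if every conjugate lies in a normal subring, every prime over a prime element is the trace of it -/
theorem exists_algHom_comap_eq {R S K M Ω : Type u} [CommRing R] [IsDomain R] [IsIntegrallyClosed R]
    [CommRing S] [IsDomain S] [Algebra R S] [Field K] [Algebra R K] [IsFractionRing R K] [Field M] [Algebra K M]
    [Algebra R M] [IsScalarTower R K M] [FiniteDimensional K M] [Field Ω] [IsAlgClosed Ω] [Algebra K Ω]
    [Algebra R Ω] [IsScalarTower R K Ω] [Algebra S Ω] [IsScalarTower R S Ω]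
    (hSinj : Function.Injective (algebraMap S Ω))
    (hσ : ∀ (σ : M →ₐ[K] Ω) (c : M), IsIntegral R c → σ c ∈ Set.range (algebraMap S Ω))
    (Q : Ideal S) [Q.IsPrime] (P : Ideal (integralClosure R M)) [P.IsPrime]
    (hP : P.comap (algebraMap R (integralClosure R M)) = Q.comap (algebraMap R S)) :
    ∃ (σ : M →ₐ[K] Ω) (ψ : integralClosure R M →+* S),
      (∀ c : integralClosure R M, algebraMap S Ω (ψ c) = σ (c : M)) ∧ P = Q.comap ψ := by
  classical
  let C := integralClosure R M
  have hψ : ∀ σ : M →ₐ[K] Ω, ∃ ψ : C →+* S, ∀ c : C, algebraMap S Ω (ψ c) = σ (c : M) := fun σ => by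
    let e : S ≃+* (algebraMap S Ω).range := RingEquiv.ofBijective (algebraMap S Ω).rangeRestrict
      ⟨fun a b h => hSinj (congrArg Subtype.val h), (algebraMap S Ω).rangeRestrict_surjective⟩
    let j : C →+* (algebraMap S Ω).range :=
      RingHom.codRestrict (σ.toRingHom.comp C.val.toRingHom) _ fun c => hσ σ c c.2
    exact ⟨e.symm.toRingHom.comp j, fun c => congrArg Subtype.val (e.apply_symm_apply (j c))⟩
  choose ψ hψ using hψ
  have hψR : ∀ σ (a : R), ψ σ (algebraMap R C a) = algebraMap R S a := fun σ a => hSinj (by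
    rw [hψ, ← IsScalarTower.algebraMap_apply R S Ω]
    show σ (algebraMap R M a) = _
    rw [IsScalarTower.algebraMap_apply R K M, σ.commutes, ← IsScalarTower.algebraMap_apply])
  have hcomap : ∀ σ, (Q.comap (ψ σ)).comap (algebraMap R C) = Q.comap (algebraMap R S) := fun σ => by
    ext a
    simp only [Ideal.mem_comap, hψR]
  by_contra hne
  push Not at hne
  haveI : Fintype (M →ₐ[K] Ω) := Fintype.ofFinite _
  have hsub : ¬ ((P : Set C) ⊆ ⋃ σ ∈ (↑(Finset.univ : Finset (M →ₐ[K] Ω)) : Set (M →ₐ[K] Ω)),
      (Q.comap (ψ σ) : Set C)) := by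
    intro hsub
    let σ₀ : M →ₐ[K] Ω := IsAlgClosed.lift
    obtain ⟨σ, -, hσP⟩ := (Ideal.subset_union_prime (f := fun σ => Q.comap (ψ σ)) σ₀ σ₀
      fun σ _ _ _ => Ideal.comap_isPrime _ _).1 hsub
    have hPne := hne σ (ψ σ) (hψ σ)
    haveI : (Q.comap (ψ σ)).IsPrime := Ideal.comap_isPrime _ _
    have hlt : P < Q.comap (ψ σ) := lt_of_le_of_ne hσP hPne
    have := Ideal.IsIntegral.comap_lt_comap (R := R) hlt
    rw [hP, hcomap] at this
    exact lt_irrefl _ this
  obtain ⟨c, hcP, hcQ⟩ := Set.not_subset.1 hsub
  simp only [Finset.coe_univ, Set.mem_univ, Set.iUnion_true, Set.mem_iUnion, SetLike.mem_coe, not_exists] at hcQ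
  -- the constant term of the minimal polynomial
  have hc : IsIntegral R (c : M) := c.2
  let μ := minpoly R (c : M)
  have hμK : minpoly K (c : M) = μ.map (algebraMap R K) := minpoly.isIntegrallyClosed_eq_field_fractions' K hc
  have h0P : algebraMap R C (μ.coeff 0) ∈ P := by
    have h1 : Polynomial.aeval c μ = 0 := Subtype.ext (by
      rw [Polynomial.aeval_subalgebra_coe]
      exact minpoly.aeval R (c : M))
    have h2 := congrArg (Polynomial.aeval c) (Polynomial.X_mul_divX_add μ)
    rw [map_add, map_mul, Polynomial.aeval_X, Polynomial.aeval_C, h1] at h2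
    rw [eq_neg_of_add_eq_zero_right h2]
    exact neg_mem (Ideal.mul_mem_right _ _ hcP)
  have h0Q : algebraMap R S (μ.coeff 0) ∈ Q := by
    rw [← Ideal.mem_comap, ← hP]; exact h0P
  -- all roots avoid `Q`
  let μΩ := μ.map (algebraMap R Ω)
  have hμΩ : μΩ = (minpoly K (c : M)).map (algebraMap K Ω) := by
    rw [hμK, Polynomial.map_map, ← IsScalarTower.algebraMap_eq]
  have hroots : ∀ z ∈ μΩ.roots, ∃ s : S, s ∉ Q ∧ algebraMap S Ω s = z := by
    intro z hz
    have hzr : Polynomial.aeval z (minpoly K (c : M)) = 0 := by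
      rw [Polynomial.aeval_def, ← Polynomial.eval_map, ← hμΩ]
      exact (Polynomial.mem_roots'.1 hz).2
    haveI : Algebra.IsAlgebraic K M := Algebra.IsAlgebraic.of_finite K M
    have hz' : z ∈ Set.range fun σ : M →ₐ[K] Ω => σ (c : M) := by
      rw [Algebra.IsAlgebraic.range_eval_eq_rootSet_minpoly_of_splits _ (fun x => IsAlgClosed.splits _)]
      exact (Polynomial.mem_rootSet_of_ne (minpoly.ne_zero (IsIntegral.of_finite K _))).2 hzr
    obtain ⟨σ, rfl⟩ := hz'
    exact ⟨ψ σ c, hcQ σ, hψ σ c⟩
  have hprod : ∀ m : Multiset Ω, (∀ z ∈ m, ∃ s : S, s ∉ Q ∧ algebraMap S Ω s = z) →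
      ∃ s : S, s ∉ Q ∧ algebraMap S Ω s = m.prod := by
    intro m
    induction m using Multiset.induction with
    | empty => exact fun _ => ⟨1, fun h => (inferInstance : Q.IsPrime).ne_top ((Ideal.eq_top_iff_one Q).2 h), by simp⟩
    | cons a m ih =>
      intro h
      obtain ⟨s, hs, hsa⟩ := h a (Multiset.mem_cons_self _ _)
      obtain ⟨s', hs', hsm⟩ := ih fun z hz => h z (Multiset.mem_cons_of_mem hz)
      exact ⟨s * s', fun hh => ((inferInstance : Q.IsPrime).mem_or_mem hh).elim hs hs', by
        rw [map_mul, hsa, hsm, Multiset.prod_cons]⟩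
  obtain ⟨s, hsQ, hs⟩ := hprod _ hroots
  have hmonic : μΩ.Monic := (minpoly.monic hc).map _
  have hsplit : μΩ.Splits := IsAlgClosed.splits _
  have h3 := hsplit.coeff_zero_eq_prod_roots_of_monic hmonic
  rw [Polynomial.coeff_map, ← hs, IsScalarTower.algebraMap_apply R S Ω] at h3
  have h4 : algebraMap R S (μ.coeff 0) = (-1) ^ μΩ.natDegree * s := hSinj (by rw [h3]; simp)
  rw [h4] at h0Q
  refine hsQ (((inferInstance : Q.IsPrime).mem_or_mem h0Q).resolve_left fun h => ?_)
  exact (inferInstance : Q.IsPrime).ne_top (Ideal.eq_top_of_isUnit_mem _ h ((isUnit_one.neg).pow _))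

end Groth.L27.AbsAbh
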