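import Groth.Agent.L27.AbsAbh.Basic
import Groth.Agent.L13.Purity.Global
import Mathlib.RingTheory.Smooth.IntegralClosure
import Mathlib.RingTheory.Etale.Pi
import Mathlib.RingTheory.Unramified.Locus

/-! Normalisation of a normal domain in an algebra which is finite etale over a basic open. -/

set_option autoImplicit false
set_option linter.style.haveILetI false
set_option backward.isDefEq.respectTransparency false

universe u

open TensorProduct

namespace Groth.L27.AbsAbh

/-- a map from a finite product of fields to a field sees one factor -/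
theorem exists_factor {ι : Type*} [Finite ι] [DecidableEq ι] {F : ι → Type*} [∀ j, Field (F j)] {M : Type*} [Field M]
    (h : (∀ j, F j) →+* M) :
    ∃ j, h (Pi.single j 1) = 1 ∧ ∀ x, h x = 0 → Pi.single j 1 * x = 0 := by
  cases nonempty_fintype ι
  obtain ⟨j, hj⟩ : ∃ j, h (Pi.single j 1) ≠ 0 := by
    by_contra! hc
    have h1 : h 1 = 0 := by
      rw [← Finset.univ_sum_single (1 : ∀ j, F j), map_sum]
      exact Finset.sum_eq_zero fun j _ => hc j
    exact one_ne_zero ((map_one h).symm.trans h1)
  have hidem : (Pi.single j 1 : ∀ j, F j) * Pi.single j 1 = Pi.single j 1 := by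
    rw [← Pi.single_mul, one_mul]
  refine ⟨j, mul_left_cancel₀ hj (by rw [← map_mul, hidem, mul_one]), fun x hx => ?_⟩
  rw [← Pi.single_mul_left, one_mul]
  by_contra hne
  have hxj : x j ≠ 0 := fun h0 => hne (by rw [h0, Pi.single_zero])
  refine hj ?_
  have : (Pi.single j 1 : ∀ j, F j) = Pi.single j (x j)⁻¹ * x := by
    rw [← Pi.single_mul_left, inv_mul_cancel₀ hxj]
  rw [this, map_mul, hx, mul_zero]

/-- integral elements of the generic fibre of an etale algebra over a normal domain -/
theorem exists_eq_tmul {R K T : Type u} [CommRing R] [IsDomain R] [IsIntegrallyClosed R] [Field K] [Algebra R K]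
    [IsFractionRing R K] [CommRing T] [Algebra R T] [Algebra.Etale R T] {e : K ⊗[R] T} (he : IsIntegral R e) :
    ∃ t : T, e = (1 : K) ⊗ₜ[R] t := by
  let c := Algebra.TensorProduct.comm R K T
  obtain ⟨w, hw⟩ := (TensorProduct.toIntegralClosure_bijective_of_smooth (R := R) (S := T) (B := K)).2
    ⟨c e, (he.map c.toAlgHom).tower_top⟩
  suffices h : ∃ t : T, c e = t ⊗ₜ[R] (1 : K) by
    obtain ⟨t, ht⟩ := h
    exact ⟨t, c.injective (ht.trans (by simp [c]))⟩
  have h1 : (Algebra.TensorProduct.map (AlgHom.id T T) (integralClosure R K).val) w = c e :=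
    congrArg Subtype.val hw
  clear hw
  rw [← h1]
  clear h1
  induction w with
  | zero => exact ⟨0, by simp⟩
  | add a b ha hb =>
    obtain ⟨s, hs⟩ := ha
    obtain ⟨t, ht⟩ := hb
    exact ⟨s + t, by rw [map_add, hs, ht, add_tmul]⟩
  | tmul a v =>
    obtain ⟨v, hv⟩ := v
    rw [IsIntegrallyClosed.integralClosure_eq_bot R K, Algebra.mem_bot] at hv
    obtain ⟨r, rfl⟩ := hv
    exact ⟨r • a, by simp [smul_tmul, Algebra.algebraMap_eq_smul_one]⟩

/-- the integral closure of a normal domain in a field generated by an etale algebra is a quotient of it -/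
theorem exists_eq_of_isIntegral {R K T M : Type u} [CommRing R] [IsDomain R] [IsIntegrallyClosed R] [Field K]
    [Algebra R K] [IsFractionRing R K] [CommRing T] [Algebra R T] [Algebra.Etale R T] [Field M] [Algebra K M]
    [Algebra R M] [IsScalarTower R K M] (ψ : T →ₐ[R] M) (hψ : Algebra.adjoin K (Set.range ψ) = ⊤)
    {x : M} (hx : IsIntegral R x) : ∃ t, ψ t = x := by
  classical
  let θ : K ⊗[R] T →ₐ[K] M := Algebra.TensorProduct.lift (Algebra.ofId K M) ψ fun _ _ => Commute.all _ _
  have hθ : Function.Surjective θ := by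
    intro y
    have hy : y ∈ θ.range := by
      refine (show Algebra.adjoin K (Set.range ψ) ≤ θ.range from Algebra.adjoin_le ?_) (hψ ▸ Algebra.mem_top)
      rintro _ ⟨t, rfl⟩
      exact ⟨1 ⊗ₜ t, by simp [θ]⟩
    exact hy
  haveI : Algebra.Etale K (K ⊗[R] T) := inferInstance
  obtain ⟨ι, hι, F, _, _, e, -⟩ := (Algebra.Etale.iff_exists_algEquiv_prod (K := K) (A := K ⊗[R] T)).1 inferInstance
  haveI := hι
  obtain ⟨j, hj1, hj⟩ := exists_factor (θ.toRingHom.comp e.symm.toRingEquiv.toRingHom)
  let ε : K ⊗[R] T := e.symm (Pi.single j 1)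
  have hε1 : θ ε = 1 := hj1
  have hε0 : ∀ z, θ z = 0 → ε * z = 0 := fun z hz => e.injective (by
    rw [map_mul, map_zero, AlgEquiv.apply_symm_apply]
    exact hj _ (by show θ (e.symm (e z)) = 0; rwa [AlgEquiv.symm_apply_apply]))
  have hεε : ε * ε = ε := by rw [← map_mul, ← Pi.single_mul, one_mul]
  obtain ⟨y, rfl⟩ := hθ x
  obtain ⟨p, hp, hpx⟩ := hx
  have hint : IsIntegral R (ε * y) := by
    refine ⟨Polynomial.X * p, Polynomial.monic_X.mul hp, ?_⟩
    rw [← Polynomial.aeval_def, map_mul, Polynomial.aeval_X]
    have h0 : ε * Polynomial.aeval y p = 0 := hε0 _ (by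
      have h1 := Polynomial.aeval_algHom_apply (θ.restrictScalars R) y p
      exact h1.symm.trans ((Polynomial.aeval_def _ _).trans hpx))
    obtain ⟨c, hc⟩ := Polynomial.sub_dvd_eval_sub (ε * y) y (p.map (algebraMap R (K ⊗[R] T)))
    rw [Polynomial.eval_map_algebraMap, Polynomial.eval_map_algebraMap] at hc
    linear_combination y * h0 + ε * y * hc + y * (c * y) * hεε
  obtain ⟨t, ht⟩ := exists_eq_tmul (K := K) hint
  refine ⟨t, ?_⟩
  have h2 := congrArg θ ht
  rw [map_mul, hε1, one_mul] at h2
  rw [h2]
  simp [θ]

section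

variable {A B : Type u} [CommRing A] [CommRing B] [Algebra A B] (F : A) (AF : Type u) [CommRing AF] [Algebra A AF]
  [IsLocalization.Away F AF] [Algebra AF B] [IsScalarTower A AF B] [Algebra.Etale AF B] [Module.Finite AF B]
  {R : Type u} [CommRing R] [IsDomain R] [Algebra A R]

include AF in
/-- the integral closure is unramified away from `F` -/
theorem isUnramifiedAt_of_notMem [IsIntegrallyClosed R] {K : Type u} [Field K] [Algebra R K] [IsFractionRing R K]
    {M : Type u} [Field M] [Algebra K M] [Algebra R M] [IsScalarTower R K M] [Algebra A M] [IsScalarTower A R M]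
    (φ : B →ₐ[A] M) (hgen : Algebra.adjoin K (Set.range φ) = ⊤) (hF : algebraMap A R F ≠ 0)
    (P : Ideal (integralClosure R M)) [P.IsPrime] (hP : algebraMap A (integralClosure R M) F ∉ P) :
    Algebra.IsUnramifiedAt R P := by
  let G := algebraMap A R F
  let RF := Localization.Away G
  have hM : Submonoid.powers G ≤ nonZeroDivisors R := powers_le_nonZeroDivisors_of_noZeroDivisors hF
  have huK : IsUnit (algebraMap R K G) :=
    isUnit_iff_ne_zero.2 ((map_ne_zero_iff _ (IsFractionRing.injective R K)).2 hF)
  letI : Algebra RF K := (IsLocalization.Away.lift G huK : RF →+* K).toAlgebra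
  haveI : IsScalarTower R RF K := IsScalarTower.of_algebraMap_eq fun r => (IsLocalization.Away.lift_eq G huK r).symm
  haveI : IsDomain RF := IsLocalization.isDomain_localization hM
  haveI : IsIntegrallyClosed RF := isIntegrallyClosed_of_isLocalization RF (Submonoid.powers G) hM
  haveI : IsFractionRing RF K :=
    IsFractionRing.isFractionRing_of_isDomain_of_isLocalization (Submonoid.powers G) RF K
  letI : Algebra RF M := ((algebraMap K M).comp (algebraMap RF K)).toAlgebra
  haveI : IsScalarTower RF K M := IsScalarTower.of_algebraMap_eq' rfl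
  haveI : IsScalarTower R RF M := IsScalarTower.of_algebraMap_eq fun r => by
    rw [RingHom.algebraMap_toAlgebra, RingHom.comp_apply, ← IsScalarTower.algebraMap_apply R RF K,
      ← IsScalarTower.algebraMap_apply R K M]
  have huF : IsUnit (algebraMap A RF F) := by
    rw [IsScalarTower.algebraMap_apply A R RF]
    exact IsLocalization.Away.algebraMap_isUnit G
  letI : Algebra AF RF := (IsLocalization.Away.lift F huF : AF →+* RF).toAlgebra
  haveI : IsScalarTower A AF RF := IsScalarTower.of_algebraMap_eq fun a => (IsLocalization.Away.lift_eq F huF a).symm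
  letI : Algebra AF M := ((algebraMap RF M).comp (algebraMap AF RF)).toAlgebra
  haveI : IsScalarTower AF RF M := IsScalarTower.of_algebraMap_eq' rfl
  have hAM : ∀ a : A, algebraMap AF M (algebraMap A AF a) = algebraMap A M a := fun a => by
    rw [RingHom.algebraMap_toAlgebra, RingHom.comp_apply, ← IsScalarTower.algebraMap_apply A AF RF,
      IsScalarTower.algebraMap_apply A R RF, ← IsScalarTower.algebraMap_apply R RF M,
      ← IsScalarTower.algebraMap_apply A R M]
  have hφ : φ.toRingHom.comp (algebraMap AF B) = algebraMap AF M :=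
    IsLocalization.ringHom_ext (Submonoid.powers F) (RingHom.ext fun a => by
      show φ (algebraMap AF B (algebraMap A AF a)) = algebraMap AF M (algebraMap A AF a)
      rw [← IsScalarTower.algebraMap_apply A AF B, φ.commutes, hAM])
  let φ' : B →ₐ[AF] M := AlgHom.mk φ.toRingHom (RingHom.congr_fun hφ)
  let ψ : RF ⊗[AF] B →ₐ[RF] M :=
    Algebra.TensorProduct.lift (Algebra.ofId RF M) φ' fun _ _ => Commute.all _ _
  have hψ : Algebra.adjoin K (Set.range ψ) = ⊤ := by
    refine top_le_iff.1 (hgen ▸ Algebra.adjoin_mono ?_)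
    rintro _ ⟨b, rfl⟩
    exact ⟨1 ⊗ₜ b, by simp [ψ, φ']⟩
  let C' := integralClosure RF M
  let ψ' : RF ⊗[AF] B →ₐ[RF] C' := ψ.codRestrict C' fun t => (Algebra.IsIntegral.isIntegral t).map ψ
  have hsur : Function.Surjective ψ' := fun x => by
    obtain ⟨t, ht⟩ := exists_eq_of_isIntegral (K := K) ψ hψ x.2
    exact ⟨t, Subtype.ext ht⟩
  haveI : Algebra.FormallyUnramified RF C' := Algebra.FormallyUnramified.of_surjective ψ' hsur
  haveI : Algebra.FormallyUnramified R C' := Algebra.FormallyUnramified.comp R RF C'
  let C := integralClosure R M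
  letI : Algebra C C' :=
    (RingHom.codRestrict C.val.toRingHom C'.toSubsemiring fun x => x.2.tower_top).toAlgebra
  haveI : IsScalarTower C C' M := IsScalarTower.of_algebraMap_eq fun _ => rfl
  haveI : IsScalarTower R C C' := IsScalarTower.of_algebraMap_eq fun r => Subtype.ext (by
    rw [RingHom.algebraMap_toAlgebra]
    rfl)
  haveI : IsLocalization.Away (algebraMap R M G) M := IsLocalization.away_of_isUnit_of_bijective M
    (isUnit_iff_ne_zero.2 (by
      rw [IsScalarTower.algebraMap_apply R K M]
      exact (map_ne_zero _).2 huK.ne_zero)) Function.bijective_id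
  haveI hloc : IsLocalization.Away (algebraMap R C G) C' := IsLocalization.Away.integralClosure (Sf := M) G
  haveI : Algebra.FormallyUnramified R (Localization.Away (algebraMap R C G)) :=
    Algebra.FormallyUnramified.of_equiv ((IsLocalization.algEquiv (Submonoid.powers (algebraMap R C G)) C'
      (Localization.Away (algebraMap R C G))).restrictScalars R)
  refine (Algebra.basicOpen_subset_unramifiedLocus_iff.2 (inferInstance :
    Algebra.FormallyUnramified R (Localization.Away (algebraMap R C G)))) (show ⟨P, inferInstance⟩ ∈ _ from ?_)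
  show algebraMap R C G ∉ P
  rwa [← IsScalarTower.algebraMap_apply A R C]

end

open Groth.L13.Purity in
/-- the normalisation of `R` in every field generated by `B` over `K` is unramified in codimension one -/
def Good (A B R K : Type u) [CommRing A] [CommRing B] [Algebra A B] [CommRing R] [Algebra A R] [Field K]
    [Algebra R K] : Prop :=
  ∀ (M : Type u) [Field M] [Algebra K M] [Algebra R M] [IsScalarTower R K M] [Algebra A M] [IsScalarTower A R M]
    [FiniteDimensional K M] [Algebra.IsSeparable K M] (φ : B →ₐ[A] M),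
    Algebra.adjoin K (Set.range φ) = ⊤ → UnramifiedCodimOne R (integralClosure R M)

open Groth.L13.Purity in
set_option maxHeartbeats 1000000 in
/-- the normalisation in a finite etale algebra over a basic open is finite etale -/
theorem etale_integralClosure {A B R K RF T : Type u} [CommRing A] [CommRing B] [Algebra A B] [CommRing R]
    [IsDomain R] [IsNoetherianRing R] (hreg : ∀ (p : Ideal R) [p.IsPrime], IsRegularLocalRing (Localization.AtPrime p))
    [Algebra A R] [Field K] [Algebra R K] [IsFractionRing R K] (hgood : Good A B R K)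
    (G : R) (hG : G ≠ 0) [CommRing RF] [Algebra R RF] [IsLocalization.Away G RF] [CommRing T] [Algebra RF T]
    [Algebra R T] [IsScalarTower R RF T] [Algebra.Etale RF T] [Module.Finite RF T] [Algebra A T] [IsScalarTower A R T]
    (φT : B →ₐ[A] T) (hgenT : Algebra.adjoin RF (Set.range φT) = ⊤) :
    Algebra.Etale R (integralClosure R T) ∧ Module.Finite R (integralClosure R T) ∧
      IsLocalization.Away (algebraMap R (integralClosure R T) G) T := by
  classical
  haveI := isIntegrallyClosed_of_regular hreg
  have hM : Submonoid.powers G ≤ nonZeroDivisors R := powers_le_nonZeroDivisors_of_noZeroDivisors hG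
  have huK : IsUnit (algebraMap R K G) :=
    isUnit_iff_ne_zero.2 ((map_ne_zero_iff _ (IsFractionRing.injective R K)).2 hG)
  letI : Algebra RF K := (IsLocalization.Away.lift G huK : RF →+* K).toAlgebra
  haveI : IsScalarTower R RF K := IsScalarTower.of_algebraMap_eq fun r => (IsLocalization.Away.lift_eq G huK r).symm
  haveI : IsDomain RF := IsLocalization.isDomain_of_le_nonZeroDivisors RF hM
  haveI : IsNoetherianRing RF := IsLocalization.isNoetherianRing (Submonoid.powers G) RF inferInstance
  haveI : IsIntegrallyClosed RF := isIntegrallyClosed_of_isLocalization RF (Submonoid.powers G) hM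
  haveI : IsFractionRing RF K :=
    IsFractionRing.isFractionRing_of_isDomain_of_isLocalization (Submonoid.powers G) RF K
  let E := K ⊗[RF] T
  obtain ⟨ι, hι, F, _, _, e, hF⟩ := (Algebra.Etale.iff_exists_algEquiv_prod (K := K) (A := E)).1 inferInstance
  haveI := hι
  letI algR : ∀ j, Algebra R (F j) := fun j => ((algebraMap K (F j)).comp (algebraMap R K)).toAlgebra
  haveI towR : ∀ j, IsScalarTower R K (F j) := fun j => IsScalarTower.of_algebraMap_eq fun r => rfl
  let g : T →ₐ[R] (∀ j, F j) :=
    (e.restrictScalars R).toAlgHom.comp ((Algebra.TensorProduct.includeRight : T →ₐ[RF] E).restrictScalars R)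
  have hg : Function.Injective g := e.injective.comp (tmul_left_injective le_rfl K)
  let C := integralClosure R T
  let Φ : C →ₐ[R] (∀ j, integralClosure R (F j)) :=
    Pi.algHom R _ fun j => (((Pi.evalAlgHom R F j).comp g).comp C.val).codRestrict _
      fun b => b.2.map ((Pi.evalAlgHom R F j).comp g)
  have hΦ : Function.Bijective Φ := by
    refine ⟨fun a b h => Subtype.ext (hg (funext fun j => congrArg Subtype.val (congrFun h j))), fun c => ?_⟩
    let c₀ : ∀ j, F j := fun j => (c j).1
    have h1 : IsIntegral R c₀ := by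
      cases nonempty_fintype ι
      rw [show c₀ = ∑ j, Pi.single j (c j).1 from (Finset.univ_sum_single c₀).symm]
      refine IsIntegral.sum _ fun i _ => ?_
      obtain ⟨p, hp, hp'⟩ := (c i).2
      refine ⟨Polynomial.X * p, Polynomial.monic_X.mul hp, ?_⟩
      rw [← Polynomial.aeval_def]
      funext j
      rw [← Pi.evalAlgHom_apply R F j (Polynomial.aeval _ _), ← Polynomial.aeval_algHom_apply]
      rcases eq_or_ne j i with rfl | hne
      · rw [Pi.evalAlgHom_apply, Pi.single_eq_same, map_mul]
        rw [show Polynomial.aeval (c j).1 p = 0 from (Polynomial.aeval_def _ _).trans hp', mul_zero]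
        rfl
      · rw [Pi.evalAlgHom_apply, Pi.single_eq_of_ne hne, map_mul, Polynomial.aeval_X, zero_mul]
        rfl
    have h2 : IsIntegral R (e.symm c₀) := h1.map (e.symm.restrictScalars R).toAlgHom
    obtain ⟨t, ht⟩ := exists_eq_tmul (R := RF) (K := K) (T := T) h2.tower_top
    have h4 : g t = c₀ := (congrArg e ht).symm.trans (e.apply_symm_apply c₀)
    exact ⟨⟨t, (isIntegral_algHom_iff g hg).1 (h4 ▸ h1)⟩, funext fun j => Subtype.ext (congrFun h4 j)⟩
  have hC : ∀ j, Algebra.Etale R (integralClosure R (F j)) ∧ Module.Finite R (integralClosure R (F j)) := by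
    intro j
    haveI := (hF j).1
    haveI := (hF j).2
    letI : Algebra A (F j) := ((algebraMap R (F j)).comp (algebraMap A R)).toAlgebra
    haveI : IsScalarTower A R (F j) := IsScalarTower.of_algebraMap_eq' rfl
    let ev : E →ₐ[K] F j := (Pi.evalAlgHom K F j).comp e.toAlgHom
    have hev : Function.Surjective ev := (Function.surjective_eval j).comp e.surjective
    let φ : B →ₐ[A] F j := (((Pi.evalAlgHom R F j).comp g).restrictScalars A).comp φT
    refine etale_of_unramifiedCodimOne hreg K (F j) (integralClosure R (F j)) (hgood (F j) φ ?_)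
    rw [eq_top_iff]
    rintro y -
    obtain ⟨z, rfl⟩ := hev y
    have hT : ∀ t : T, ev (1 ⊗ₜ[RF] t) ∈ Algebra.adjoin K (Set.range φ) := by
      intro t
      have ht : t ∈ Algebra.adjoin RF (Set.range φT) := hgenT ▸ Algebra.mem_top
      induction ht using Algebra.adjoin_induction with
      | mem x hx =>
        obtain ⟨b, rfl⟩ := hx
        exact Algebra.subset_adjoin ⟨b, rfl⟩
      | algebraMap r =>
        have : ev (1 ⊗ₜ[RF] algebraMap RF T r) = algebraMap K (F j) (algebraMap RF K r) := by
          rw [← AlgHom.commutes ev, Algebra.algebraMap_eq_smul_one (A := T), tmul_smul, smul_tmul',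
            ← Algebra.algebraMap_eq_smul_one]
          rfl
        rw [this]
        exact Subalgebra.algebraMap_mem _ _
      | add x y _ _ hx hy => rw [tmul_add, map_add]; exact add_mem hx hy
      | mul x y _ _ hx hy =>
        rw [show (1 : K) ⊗ₜ[RF] (x * y) = (1 ⊗ₜ x) * (1 ⊗ₜ y) by
          rw [Algebra.TensorProduct.tmul_mul_tmul, one_mul], map_mul]
        exact mul_mem hx hy
    induction z using TensorProduct.induction_on with
    | zero => rw [map_zero]; exact zero_mem _
    | add x y hx hy => rw [map_add]; exact add_mem hx hy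
    | tmul k t =>
      rw [show k ⊗ₜ[RF] t = k • ((1 : K) ⊗ₜ[RF] t) by rw [smul_tmul', smul_eq_mul, mul_one], map_smul]
      exact Subalgebra.smul_mem _ (hT t) k
  haveI := fun j => (hC j).1
  haveI := fun j => (hC j).2
  let Ψ := AlgEquiv.ofBijective Φ hΦ
  refine ⟨Algebra.Etale.of_equiv Ψ.symm, Module.Finite.equiv Ψ.symm.toLinearEquiv, ?_⟩
  have hu : IsUnit (algebraMap R T G) := by
    rw [IsScalarTower.algebraMap_apply R RF T]
    exact (IsLocalization.Away.algebraMap_isUnit G).map _
  refine ⟨⟨?_, ?_, ?_⟩⟩
  · rintro ⟨_, k, rfl⟩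
    simpa using hu.pow k
  · intro t
    obtain ⟨⟨_, k, rfl⟩, hk⟩ := IsIntegral.exists_multiple_integral_of_isLocalization (Submonoid.powers G) t
      (Algebra.IsIntegral.isIntegral (R := RF) t)
    refine ⟨⟨⟨_, hk⟩, ⟨_, k, rfl⟩⟩, ?_⟩
    show t * algebraMap C T (algebraMap R C G ^ k) = _
    rw [map_pow, ← IsScalarTower.algebraMap_apply, mul_comm, ← map_pow]
    exact (Algebra.smul_def _ t).symm
  · intro x y h
    exact ⟨1, congrArg _ (Subtype.ext h)⟩

end Groth.L27.AbsAbh
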