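import Groth.Prelude.Def_FEt
import Groth.Prelude.Def_SGA1
import Groth.Agent.L27.AbsAbh.Levels
import Groth.Agent.L27.EtSite.SplitCover
import Mathlib.AlgebraicGeometry.Morphisms.Etale
import Mathlib.AlgebraicGeometry.Morphisms.Finite
import Mathlib.Algebra.Category.Ring.Constructions
import Mathlib.RingTheory.Flat.Tensor
import Mathlib.RingTheory.LocalRing.Module
import Mathlib.RingTheory.Smooth.Flat

/-! The absolute Abhyankar lemma. -/

set_option autoImplicit false
set_option linter.style.haveILetI false
set_option backward.isDefEq.respectTransparency false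

universe u

open AlgebraicGeometry CategoryTheory CategoryTheory.Limits
open scoped TensorProduct

namespace Groth.L27.AbsAbh

/-- a morphism from an affine scheme to a spectrum is given by its map on global sections -/
theorem isoSpec_inv_comp {X : Scheme.{u}} [IsAffine X] {A : CommRingCat.{u}} (f : X ⟶ Spec A) :
    X.isoSpec.inv ≫ f = Spec.map ((Scheme.ΓSpecIso A).inv ≫ f.appTop) := by
  rw [← Scheme.isoSpec_inv_naturality f, Scheme.isoSpec_Spec_inv, ← Spec.map_comp]

/-- a basic open of a spectrum is the spectrum of the localization -/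
theorem exists_chart (A : Type u) [CommRing A] (F : A) (AF : Type u) [CommRing AF] [Algebra A AF]
    [IsLocalization.Away F AF] (U : (Spec (CommRingCat.of A)).Opens) (hU : U = PrimeSpectrum.basicOpen F) :
    ∃ e : Spec (CommRingCat.of AF) ≅ (U : Scheme.{u}),
      e.hom ≫ U.ι = Spec.map (CommRingCat.ofHom (algebraMap A AF)) := by
  haveI : IsOpenImmersion (Spec.map (CommRingCat.ofHom (algebraMap A AF))) := IsOpenImmersion.of_isLocalization F
  have h : Set.range (Spec.map (CommRingCat.ofHom (algebraMap A AF))) = Set.range U.ι := by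
    subst hU
    rw [Scheme.Opens.range_ι]
    exact PrimeSpectrum.localization_away_comap_range AF F
  exact ⟨IsOpenImmersion.isoOfRangeEq _ _ h, IsOpenImmersion.isoOfRangeEq_hom_fac _ _ h⟩

set_option maxHeartbeats 4000000 in
theorem absolute_abhyankar (A : Type u) [CommRing A] [IsRegularLocalRing A] [IsDomain A] (r : ℕ) (f : Fin r → A)
    (hm : ∀ i, f i ∈ IsLocalRing.maximalIdeal A)
    (hf : LinearIndependent (IsLocalRing.ResidueField A) (fun i => (IsLocalRing.maximalIdeal A).toCotangent ⟨f i, hm i⟩))
    [∀ i, (Ideal.span {f i}).IsPrime]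
    (V : FEt.Cat ((SGA1.specBasicOpen A (∏ i, f i)) : Scheme.{u}))
    (htame : SGA1.IsTameAlong f (((V.hom ≫ ((SGA1.specBasicOpen A (∏ i, f i))).ι).appTop).hom.comp
      (Scheme.ΓSpecIso (CommRingCat.of A)).inv.hom)) :
    ∃ n : Fin r → ℕ, (∀ i, 1 ≤ n i) ∧ (∀ i, IsUnit ((n i : ℕ) : IsLocalRing.ResidueField A)) ∧
      (∃ W : FEt.Cat (Spec (CommRingCat.of (SGA1.kummerAlg A f n))),
        Nonempty ((FEt.restrict ((Spec.map (CommRingCat.ofHom (algebraMap A (SGA1.kummerAlg A f n)))) ⁻¹ᵁ
          (SGA1.specBasicOpen A (∏ i, f i))).ι).obj W ≅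
          (FEt.restrict ((Spec.map (CommRingCat.ofHom (algebraMap A (SGA1.kummerAlg A f n)))) ∣_
            (SGA1.specBasicOpen A (∏ i, f i)))).obj V)) ∧
      ((HenselianLocalRing A ∧ IsSepClosed (IsLocalRing.ResidueField A) ∧ ConnectedSpace V.left) →
        ∃ φ : (↑((Spec.map (CommRingCat.ofHom (algebraMap A (SGA1.kummerAlg A f n)))) ⁻¹ᵁ
            (SGA1.specBasicOpen A (∏ i, f i))) : Scheme.{u}) ⟶ V.left,
          φ ≫ V.hom = (Spec.map (CommRingCat.ofHom (algebraMap A (SGA1.kummerAlg A f n)))) ∣_
            (SGA1.specBasicOpen A (∏ i, f i)) ∧ Surjective φ) := by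
  classical
  let F : A := ∏ i, f i
  let U := SGA1.specBasicOpen A F
  haveI hVfin : IsFinite V.hom := V.prop.1
  haveI hVet : Etale V.hom := V.prop.2
  let AF := Localization.Away F
  obtain ⟨e0, he0⟩ := exists_chart A F AF U rfl
  haveI : IsAffine (U : Scheme.{u}) := IsAffine.of_isIso e0.inv
  haveI : IsAffine ((Functor.fromPUnit (U : Scheme.{u})).obj V.right) := inferInstanceAs (IsAffine (U : Scheme.{u}))
  haveI : IsAffine V.left := isAffine_of_isAffineHom V.hom
  let B : Type u := ↑Γ(V.left, ⊤)
  let φ0 : A →+* B := ((V.hom ≫ U.ι).appTop).hom.comp (Scheme.ΓSpecIso (CommRingCat.of A)).inv.hom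
  letI : Algebra A B := φ0.toAlgebra
  let gg : CommRingCat.of AF ⟶ CommRingCat.of B := Spec.preimage (V.left.isoSpec.inv ≫ V.hom ≫ e0.inv)
  have hgg : Spec.map gg = V.left.isoSpec.inv ≫ V.hom ≫ e0.inv := Spec.map_preimage _
  letI : Algebra AF B := gg.hom.toAlgebra
  haveI : IsScalarTower A AF B := by
    refine IsScalarTower.of_algebraMap_eq' ?_
    have h : CommRingCat.ofHom (algebraMap A AF) ≫ gg = CommRingCat.ofHom φ0 := by
      apply Spec.map_injective
      rw [Spec.map_comp, hgg, Category.assoc, Category.assoc, ← he0, Iso.inv_hom_id_assoc, isoSpec_inv_comp]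
      rfl
    exact (congrArg CommRingCat.Hom.hom h).symm
  haveI : IsFinite (Spec.map gg) := by rw [hgg]; infer_instance
  haveI : Etale (Spec.map gg) := by rw [hgg]; infer_instance
  haveI : Module.Finite AF B := RingHom.finite_algebraMap.1 (by
    rw [RingHom.algebraMap_toAlgebra]; exact (IsFinite.SpecMap_iff gg).1 ‹_›)
  haveI : Algebra.Etale AF B := RingHom.etale_algebraMap.1 (by
    rw [RingHom.algebraMap_toAlgebra]; exact (HasRingHomProperty.Spec_iff (P := @Etale)).1 ‹_›)
  haveI := fun i => (inferInstance : (Ideal.span {f i}).IsPrime)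
  obtain ⟨n, hn, hnu, hgood⟩ := exists_good (B := B) hf AF htame
  refine ⟨n, hn, hnu, ?_⟩
  let R := SGA1.kummerAlg A f n
  haveI : IsRegularLocalRing R := isRegular_kummer A hf hn
  haveI : IsDomain R := isDomain_kummer A hf hn
  haveI : Module.Finite A R := Groth.Agent.S2921.finite_kummerAlg f n hn
  have hinj : Function.Injective (algebraMap A R) := injective_kummer A hn
  let G : R := algebraMap A R F
  have hG : G ≠ 0 := fun h => prod_ne_zero hf (hinj (h.trans (map_zero _).symm))
  let RF := Localization.Away G
  have huF : IsUnit (algebraMap A RF F) := by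
    rw [IsScalarTower.algebraMap_apply A R RF]; exact IsLocalization.Away.algebraMap_isUnit G
  letI : Algebra AF RF := (IsLocalization.Away.lift F huF : AF →+* RF).toAlgebra
  haveI : IsScalarTower A AF RF := IsScalarTower.of_algebraMap_eq fun a => (IsLocalization.Away.lift_eq F huF a).symm
  let T := RF ⊗[AF] B
  haveI : IsScalarTower A R T := IsScalarTower.of_algebraMap_eq (R := A) (S := R) (A := T) fun a => by
    rw [Algebra.TensorProduct.algebraMap_apply, Algebra.TensorProduct.algebraMap_apply,
      ← IsScalarTower.algebraMap_apply A R RF]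
  let φT : B →ₐ[A] T := AlgHom.mk (Algebra.TensorProduct.includeRight : B →ₐ[AF] T).toRingHom fun a => by
    show (1 : RF) ⊗ₜ[AF] algebraMap A B a = algebraMap A RF a ⊗ₜ[AF] (1 : B)
    rw [IsScalarTower.algebraMap_apply A AF B, IsScalarTower.algebraMap_apply A AF RF,
      Algebra.TensorProduct.tmul_one_eq_one_tmul]
  have hgenT : Algebra.adjoin RF (Set.range φT) = ⊤ := by
    refine eq_top_iff.2 fun z _ => ?_
    induction z using TensorProduct.induction_on with
    | zero => exact zero_mem _
    | add x y hx hy => exact add_mem (hx trivial) (hy trivial)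
    | tmul k b =>
      rw [show k ⊗ₜ[AF] b = k • ((1 : RF) ⊗ₜ[AF] b) by rw [TensorProduct.smul_tmul', smul_eq_mul, mul_one]]
      exact Subalgebra.smul_mem _ (Algebra.subset_adjoin (Set.mem_range_self (f := φT) b)) k
  obtain ⟨hCet, hCfin, hCloc⟩ := etale_integralClosure (fun q _ => Groth.Agent.S0564.result R q)
    (K := FractionRing R) hgood G hG (RF := RF) φT hgenT
  haveI := hCet; haveI := hCfin; haveI := hCloc
  let C := integralClosure R T
  haveI : IsScalarTower R RF T := inferInstance
  haveI : IsScalarTower R C T := inferInstance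
  -- the charts
  let π := Spec.map (CommRingCat.ofHom (algebraMap A R))
  let U' := π ⁻¹ᵁ U
  obtain ⟨k, hk⟩ := exists_chart R G RF U' (TopologicalSpace.Opens.ext rfl)
  have hkπ : k.hom ≫ π ∣_ U = Spec.map (CommRingCat.ofHom (algebraMap AF RF)) ≫ e0.hom := by
    rw [← cancel_mono U.ι, Category.assoc, Category.assoc, morphismRestrict_ι, he0, ← Spec.map_comp]
    rw [show k.hom ≫ U'.ι ≫ π = (k.hom ≫ U'.ι) ≫ π from (Category.assoc _ _ _).symm, hk, ← Spec.map_comp]
    refine congrArg Spec.map ?_
    rw [← CommRingCat.ofHom_comp, ← CommRingCat.ofHom_comp, ← IsScalarTower.algebraMap_eq,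
      ← IsScalarTower.algebraMap_eq]
  constructor
  · -- the extension
    let g : Spec (CommRingCat.of C) ⟶ Spec (CommRingCat.of R) := Spec.map (CommRingCat.ofHom (algebraMap R C))
    have hg : FEt.prop g := ⟨(IsFinite.SpecMap_iff _).2 (RingHom.finite_algebraMap.2 hCfin),
      (HasRingHomProperty.Spec_iff (P := @Etale)).2 (RingHom.etale_algebraMap.2 hCet)⟩
    let W : FEt.Cat (Spec (CommRingCat.of R)) := MorphismProperty.Over.mk ⊤ g hg
    refine ⟨W, ⟨?_⟩⟩
    let p : Spec (CommRingCat.of T) ⟶ (U' : Scheme.{u}) := Spec.map (CommRingCat.ofHom (algebraMap RF T)) ≫ k.hom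
    haveI hpo1 : IsLocalization (Algebra.algebraMapSubmonoid C (Submonoid.powers G)) T := by
      rw [Algebra.algebraMapSubmonoid, Submonoid.map_powers]
      exact hCloc
    have sq1 : IsPullback (Spec.map (CommRingCat.ofHom (algebraMap C T)))
        (Spec.map (CommRingCat.ofHom (algebraMap RF T))) g (Spec.map (CommRingCat.ofHom (algebraMap R RF))) :=
      isPullback_SpecMap_of_isPushout _ _ _ _
        ((CommRingCat.isPushout_iff_isPushout (R := R) (S := RF) (R' := C) (S' := T)).2
          (Algebra.isPushout_of_isLocalization (Submonoid.powers G) RF C T))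
    have h1 : IsPullback (Spec.map (CommRingCat.ofHom (algebraMap C T))) p g U'.ι :=
      sq1.of_iso (Iso.refl _) (Iso.refl _) k (Iso.refl _) (by simp) (by simp [p]) (by simp) (by simp [hk])
    letI : Algebra B T := Algebra.TensorProduct.rightAlgebra
    have sq2 : IsPullback (Spec.map (CommRingCat.ofHom (algebraMap B T)))
        (Spec.map (CommRingCat.ofHom (algebraMap RF T))) (Spec.map gg)
        (Spec.map (CommRingCat.ofHom (algebraMap AF RF))) :=
      isPullback_SpecMap_of_isPushout _ _ _ _
        ((CommRingCat.isPushout_iff_isPushout.2 (inferInstance : Algebra.IsPushout AF RF B T)).flip)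
    have h2 : IsPullback (Spec.map (CommRingCat.ofHom (algebraMap B T)) ≫ V.left.isoSpec.inv) p V.hom (π ∣_ U) :=
      sq2.of_iso (Iso.refl _) V.left.isoSpec.symm k e0 (by simp) (by simp [p]) (by simp [hgg]) hkπ.symm
    refine MorphismProperty.Over.isoMk (h1.isoPullback.symm ≪≫ h2.isoPullback) ?_
    show (h1.isoPullback.symm ≪≫ h2.isoPullback).hom ≫ pullback.snd V.hom (π ∣_ U) = pullback.snd g U'.ι
    rw [Iso.trans_hom, Iso.symm_hom, Category.assoc, IsPullback.isoPullback_hom_snd,
      IsPullback.isoPullback_inv_snd]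
  · -- the section
    rintro ⟨hhens, hsep, hconn⟩
    haveI := hhens; haveI := hsep; haveI := hconn
    haveI : HenselianLocalRing R := Groth.L05.henselianLocalRing_of_finite (A := A) R
    haveI : IsLocalHom (algebraMap A R) :=
      RingHom.IsIntegral.isLocalHom (Algebra.IsIntegral.isIntegral (R := A)) hinj
    haveI : IsSepClosed (IsLocalRing.ResidueField R) := by
      have hsur : Function.Surjective (IsLocalRing.ResidueField.map (algebraMap A R)) := by
        intro z
        obtain ⟨x, rfl⟩ := IsLocalRing.residue_surjective z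
        induction x using kummer_induction with
        | hC a => exact ⟨IsLocalRing.residue A a, rfl⟩
        | hadd x y hx hy =>
          obtain ⟨a, ha⟩ := hx
          obtain ⟨b, hb⟩ := hy
          exact ⟨a + b, by rw [map_add, ha, hb, map_add]⟩
        | hmul x i _ =>
          exact ⟨0, by rw [map_zero, map_mul, (IsLocalRing.residue_eq_zero_iff _).2 (root_mem A hf hn i), mul_zero]⟩
      let e := RingEquiv.ofBijective _ ⟨RingHom.injective _, hsur⟩
      refine IsSepClosed.of_exists_root _ fun P hP hirr hPsep => ?_
      obtain ⟨x, hx⟩ := IsSepClosed.exists_root (P.map e.symm.toRingHom) (by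
        rw [Polynomial.degree_map]; exact (Polynomial.degree_pos_of_irreducible hirr).ne') hPsep.map
      refine ⟨e x, ?_⟩
      have h2 := congrArg e hx
      rw [map_zero] at h2
      rw [Polynomial.IsRoot.def, Polynomial.eval_map] at *
      rw [← h2]
      have h3 := Polynomial.hom_eval₂ P e.symm.toRingHom e.toRingHom x
      rw [RingEquiv.toRingHom_comp_symm_toRingHom, Polynomial.eval₂_id] at h3
      exact h3.symm
    have hinjAR : Function.Injective (algebraMap AF RF) := by
      refine (IsLocalization.lift_injective_iff _).2 fun x y => ⟨fun h => congrArg _ ?_, fun h => congrArg _ ?_⟩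
      · exact IsLocalization.injective AF (powers_le_nonZeroDivisors_of_noZeroDivisors (prod_ne_zero hf)) h
      · rw [IsScalarTower.algebraMap_eq A R RF] at h
        exact hinj (IsLocalization.injective RF (powers_le_nonZeroDivisors_of_noZeroDivisors hG) h)
    haveI : Nontrivial B := by
      haveI : Nonempty V.left := hconn.toNonempty
      haveI : Nonempty (Spec Γ(V.left, ⊤)) := ⟨V.left.isoSpec.hom.base (Classical.arbitrary _)⟩
      exact (PrimeSpectrum.nonempty_iff_nontrivial).1 (inferInstanceAs (Nonempty (Spec Γ(V.left, ⊤))))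
    haveI : Nontrivial T :=
      (Algebra.TensorProduct.includeRight_injective (R := AF) (A := RF) (B := B) hinjAR).nontrivial
    haveI : Nontrivial C := RingHom.domain_nontrivial C.val.toRingHom
    haveI het : Algebra.Etale R C := hCet
    haveI : Algebra.FinitePresentation R C := het.finitePresentation
    haveI : Algebra.Smooth R C := ⟨inferInstance, inferInstance⟩
    haveI : Module.Flat R C := Algebra.Smooth.flat R C
    haveI : Module.Free R C := Module.free_of_flat_of_isLocalRing (R := R) (P := C)
    obtain ⟨s⟩ := Groth.L27.EtSite.exists_retraction_local R C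
    have hu : IsUnit (((algebraMap R RF).comp s.toRingHom) (algebraMap R C G)) := by
      rw [RingHom.comp_apply, show s.toRingHom (algebraMap R C G) = algebraMap R R G from s.commutes G]
      exact IsLocalization.Away.algebraMap_isUnit G
    let ψ : T →+* RF := IsLocalization.Away.lift (algebraMap R C G) hu
    have hψR : ψ.comp (algebraMap R T) = algebraMap R RF := RingHom.ext fun a => by
      rw [RingHom.comp_apply, IsScalarTower.algebraMap_apply R C T, IsLocalization.Away.lift_eq, RingHom.comp_apply,
        show s.toRingHom (algebraMap R C a) = algebraMap R R a from s.commutes a]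
      rfl
    let ψB : B →+* RF := ψ.comp φT.toRingHom
    have hψB : ψB.comp (algebraMap AF B) = algebraMap AF RF :=
      IsLocalization.ringHom_ext (Submonoid.powers F) (RingHom.ext fun a => by
        show ψ (φT (algebraMap AF B (algebraMap A AF a))) = algebraMap AF RF (algebraMap A AF a)
        rw [← IsScalarTower.algebraMap_apply A AF B, φT.commutes, ← IsScalarTower.algebraMap_apply A AF RF,
          IsScalarTower.algebraMap_apply A R T, IsScalarTower.algebraMap_apply A R RF]
        exact RingHom.congr_fun hψR _)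
    let φ : (U' : Scheme.{u}) ⟶ V.left := k.inv ≫ Spec.map (CommRingCat.ofHom ψB) ≫ V.left.isoSpec.inv
    have hφ : φ ≫ V.hom = π ∣_ U := by
      have h1 : Spec.map (CommRingCat.ofHom ψB) ≫ Spec.map gg = Spec.map (CommRingCat.ofHom (algebraMap AF RF)) := by
        rw [← Spec.map_comp, ← hψB]
        rfl
      rw [← cancel_epi k.hom, hkπ, ← h1, hgg]
      simp [φ]
    refine ⟨φ, hφ, ?_⟩
    haveI : IsFinite (π ∣_ U) := by
      haveI : IsFinite π := (IsFinite.SpecMap_iff _).2 (RingHom.finite_algebraMap.2 ‹_›)
      infer_instance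
    haveI : Etale (π ∣_ U) := by
      haveI : Algebra.Etale AF RF := by
        have h := (Groth.Agent.S2921.result A r f hm hf n hn).2 hnu
        letI a2 := (Localization.awayMap (algebraMap A R) F).toAlgebra
        have e : (inferInstance : Algebra AF RF) = a2 := Algebra.algebra_ext _ _ (fun x => RingHom.congr_fun
          (IsLocalization.ringHom_ext (Submonoid.powers F) (RingHom.ext fun a => by
            show algebraMap AF RF (algebraMap A AF a) = Localization.awayMap (algebraMap A R) F (algebraMap A AF a)
            rw [← IsScalarTower.algebraMap_apply A AF RF, IsScalarTower.algebraMap_apply A R RF]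
            simp only [Localization.awayMap, IsLocalization.Away.map]
            rw [IsLocalization.map_eq]
            )) x)
        convert h
      haveI : Etale (Spec.map (CommRingCat.ofHom (algebraMap AF RF))) :=
        (HasRingHomProperty.Spec_iff (P := @Etale)).2 (RingHom.etale_algebraMap.2 ‹_›)
      have h : π ∣_ U = k.inv ≫ Spec.map (CommRingCat.ofHom (algebraMap AF RF)) ≫ e0.hom := by
        rw [← hkπ, Iso.inv_hom_id_assoc]
      rw [h]
      infer_instance
    haveI : IsFinite φ := by
      haveI : IsFinite (φ ≫ V.hom) := hφ ▸ inferInstance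
      exact IsFinite.of_comp φ V.hom
    haveI : Etale φ := by
      haveI : Etale (φ ≫ V.hom) := hφ ▸ inferInstance
      exact MorphismProperty.of_postcomp (W := @Etale) (W' := @Etale) φ V.hom inferInstance inferInstance
    haveI : IsDomain RF := IsLocalization.isDomain_localization (powers_le_nonZeroDivisors_of_noZeroDivisors hG)
    haveI : Nonempty (Spec (CommRingCat.of RF)) := inferInstanceAs (Nonempty (PrimeSpectrum RF))
    haveI : Nonempty (U' : Scheme.{u}) := ⟨k.hom.base (Classical.arbitrary _)⟩
    refine ⟨Set.range_eq_univ.1 ?_⟩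
    exact IsClopen.eq_univ ⟨φ.isClosedMap.isClosed_range, φ.isOpenMap.isOpen_range⟩ (Set.range_nonempty _)

end Groth.L27.AbsAbh
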